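import Mathlib

/-!
Basic facts on groups in which nontrivial elements fix at most four points.
-/

set_option autoImplicit false

namespace CfsgLib.Perm.FixityFour

open MulAction
open scoped Pointwise

variable {G Ω : Type*} [Group G] [MulAction G Ω]

/-- Nontrivial elements fix at most four points. -/
def Fix4 (G Ω : Type*) [Group G] [MulAction G Ω] : Prop :=
  ∀ g : G, g ≠ 1 → Nat.card (MulAction.fixedBy Ω g) ≤ 4

theorem ncard_le [Finite Ω] (h : Fix4 G Ω) {g : G} (hg : g ≠ 1) {F : Set Ω}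
    (hF : ∀ x ∈ F, g • x = x) : F.ncard ≤ 4 :=
  (Set.ncard_le_ncard (fun x hx => hF x hx) (Set.toFinite _)).trans
    ((Nat.card_coe_set_eq (fixedBy Ω g)).symm.trans_le (h g hg))

theorem eq_one_of_five [Finite Ω] (h : Fix4 G Ω) {g : G} {F : Set Ω} (hF5 : 4 < F.ncard)
    (hF : ∀ x ∈ F, g • x = x) : g = 1 := by
  by_contra hg
  exact absurd (ncard_le h hg hF) (not_le.mpr hF5)

theorem eq_one_of_extra [Finite Ω] (h : Fix4 G Ω) {g : G} {F : Set Ω} (hF4 : F.ncard = 4) {x : Ω}
    (hx : x ∉ F) (hgx : g • x = x) (hF : ∀ y ∈ F, g • y = y) : g = 1 := by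
  refine eq_one_of_five h (F := insert x F) (by rw [Set.ncard_insert_of_notMem hx, hF4]; norm_num) ?_
  rintro y (rfl | hy)
  · exact hgx
  · exact hF y hy

theorem fixedBy_eq_of_four [Finite Ω] (h : Fix4 G Ω) {g : G} (hg : g ≠ 1) {F : Set Ω} (hF4 : F.ncard = 4)
    (hF : ∀ y ∈ F, g • y = y) : fixedBy Ω g = F :=
  (Set.eq_of_subset_of_ncard_le (fun y hy => hF y hy)
    (((Nat.card_coe_set_eq (fixedBy Ω g)).symm.trans_le (h g hg)).trans_eq hF4.symm) (Set.toFinite _)).symm

theorem fixedBy_conj (g x : G) : fixedBy Ω (g * x * g⁻¹) = g • fixedBy Ω x :=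
  (MulAction.smul_fixedBy Ω x g).symm

theorem ncard_fixedBy_conj (g x : G) : (fixedBy Ω (g * x * g⁻¹)).ncard = (fixedBy Ω x).ncard := by
  rw [fixedBy_conj, Set.ncard_smul_set]

theorem smul_fixedBy_of_comm {c x : G} (h : c * x = x * c) : c • fixedBy Ω x = fixedBy Ω x := by
  rw [← fixedBy_conj, h, mul_inv_cancel_right]

theorem fixedBy_pow_subset (g : G) (k : ℕ) : fixedBy Ω g ⊆ fixedBy Ω (g ^ k) := by
  intro x hx
  exact MulAction.mem_stabilizer_iff.mp (pow_mem (MulAction.mem_stabilizer_iff.mpr hx) k)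

theorem mem_kernel_iff {F : Set Ω} {g : G} : g ∈ fixingSubgroup G F ↔ ∀ x ∈ F, g • x = x :=
  mem_fixingSubgroup_iff G

theorem kernel_le_setStab (F : Set Ω) : fixingSubgroup G F ≤ stabilizer G F := by
  intro g hg
  rw [mem_kernel_iff] at hg
  rw [mem_stabilizer_iff]
  refine Set.Subset.antisymm ?_ fun x hx => ⟨x, hx, hg x hx⟩
  rintro _ ⟨x, hx, rfl⟩
  show g • x ∈ F
  rw [hg x hx]
  exact hx

/-- The pointwise kernel is normal in the setwise stabiliser. -/
theorem conj_mem_kernel {F : Set Ω} {g k : G} (hg : g ∈ stabilizer G F) (hk : k ∈ fixingSubgroup G F) :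
    g * k * g⁻¹ ∈ fixingSubgroup G F := by
  rw [mem_kernel_iff] at hk ⊢
  intro x hx
  have hxg : g⁻¹ • x ∈ F := by
    rw [← Set.mem_smul_set_iff_inv_smul_mem, mem_stabilizer_iff.mp hg]
    exact hx
  rw [mul_smul, mul_smul, hk _ hxg, smul_inv_smul]

theorem mem_kernel_smul_iff {F : Set Ω} {g k : G} :
    k ∈ fixingSubgroup G (g • F) ↔ g⁻¹ * k * g ∈ fixingSubgroup G F := by
  rw [mem_kernel_iff, mem_kernel_iff]
  constructor
  · intro h x hx
    rw [mul_smul, mul_smul, h _ (Set.smul_mem_smul_set hx), inv_smul_smul]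
  · rintro h _ ⟨x, hx, rfl⟩
    have := h x hx
    rw [mul_smul, mul_smul, inv_smul_eq_iff] at this
    exact this

/-- The action of a subgroup of the setwise stabiliser on the set. -/
def permHom (F : Set Ω) : ↥(stabilizer G F) →* Equiv.Perm ↥F where
  toFun g :=
    { toFun := fun x => ⟨(g : G) • (x : Ω), by
        have := Set.smul_mem_smul_set (a := (g : G)) x.2
        rwa [mem_stabilizer_iff.mp g.2] at this⟩
      invFun := fun x => ⟨(g : G)⁻¹ • (x : Ω), by
        have := Set.smul_mem_smul_set (a := (g : G)⁻¹) x.2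
        rwa [mem_stabilizer_iff.mp (inv_mem g.2)] at this⟩
      left_inv := fun x => Subtype.ext (inv_smul_smul (g : G) (x : Ω))
      right_inv := fun x => Subtype.ext (smul_inv_smul (g : G) (x : Ω)) }
  map_one' := Equiv.ext fun x => Subtype.ext (one_smul G (x : Ω))
  map_mul' g h := Equiv.ext fun x => Subtype.ext (mul_smul (g : G) (h : G) (x : Ω))

theorem permHom_apply (F : Set Ω) (g : stabilizer G F) (x : F) :
    ((permHom F g x : F) : Ω) = (g : G) • (x : Ω) := rfl

theorem permHom_eq_one_iff {F : Set Ω} {g : stabilizer G F} :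
    permHom F g = 1 ↔ (g : G) ∈ fixingSubgroup G F := by
  rw [mem_kernel_iff]
  refine ⟨fun h x hx => ?_, fun h => Equiv.ext fun x => Subtype.ext (h x x.2)⟩
  have := permHom_apply F g ⟨x, hx⟩
  rw [h] at this
  exact this.symm

/-- A subgroup of the setwise stabiliser embeds modulo the kernel into the symmetric group. -/
theorem relIndex_kernel_dvd [Finite Ω] [Finite G] {F : Set Ω} {R : Subgroup G} (hR : R ≤ stabilizer G F) :
    (fixingSubgroup G F).relIndex R ∣ (F.ncard).factorial := by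
  classical
  set ψ : R →* Equiv.Perm ↥F := (permHom F).comp (Subgroup.inclusion hR) with hψ
  have hker : ψ.ker = (fixingSubgroup G F).subgroupOf R := by
    ext x
    rw [MonoidHom.mem_ker, hψ, MonoidHom.comp_apply, permHom_eq_one_iff, Subgroup.mem_subgroupOf]
    rfl
  rw [Subgroup.relIndex, ← hker, Subgroup.index_ker, ← Nat.card_coe_set_eq, ← Nat.card_perm]
  exact Subgroup.card_subgroup_dvd_card _

section Simple

variable [IsSimpleGroup G] (hna : ¬ IsMulCommutative G)

include hna

/-- A non-abelian simple group has no nontrivial map to an abelian group. -/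
theorem hom_eq_one {A : Type*} [CommGroup A] (V : G →* A) (g : G) : V g = 1 := by
  rcases Subgroup.Normal.eq_bot_or_eq_top (inferInstance : V.ker.Normal) with h | h
  · exfalso
    refine hna ⟨⟨fun a b => (MonoidHom.ker_eq_bot_iff V).mp h ?_⟩⟩
    rw [map_mul, map_mul, mul_comm]
  · exact MonoidHom.mem_ker.mp (h ▸ Subgroup.mem_top g)

/-- All elements of a non-abelian simple group act as even permutations. -/
theorem sign_toPermHom [Fintype Ω] [DecidableEq Ω] (g : G) :
    Equiv.Perm.sign (MulAction.toPermHom G Ω g) = 1 :=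
  hom_eq_one hna (Equiv.Perm.sign.comp (MulAction.toPermHom G Ω)) g

end Simple

theorem setStab_ne_top [FaithfulSMul G Ω] [IsPretransitive G Ω] {F : Set Ω} {a b : Ω} (ha : a ∈ F)
    (hb : b ∉ F) : stabilizer G F ≠ ⊤ := by
  intro h
  obtain ⟨g, hg⟩ := MulAction.exists_smul_eq G a b
  have : g • a ∈ g • F := Set.smul_mem_smul_set ha
  rw [mem_stabilizer_iff.mp (h ▸ Subgroup.mem_top g : g ∈ stabilizer G F), hg] at this
  exact hb this

end CfsgLib.Perm.FixityFour
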