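import Cfsg.Agent.Lib.Perm.FixityFour.Tools

/-!
Fixity four, degree divisible by eight: a four-set with largest 2-subgroup in its stabiliser, which
is not a Sylow subgroup of the whole group.
-/

set_option autoImplicit false
set_option linter.style.haveILetI false

namespace CfsgLib.Perm.FixityFour

open MulAction Subgroup
open scoped Pointwise

variable {G Ω : Type*} [Group G] [MulAction G Ω]

/-- The part of a Sylow subgroup preserving a set. -/
def part (S : Sylow 2 G) (F : Set Ω) : Subgroup G := (S : Subgroup G) ⊓ stabilizer G F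

/-- The part of a Sylow subgroup fixing a set pointwise. -/
def kerPart (S : Sylow 2 G) (F : Set Ω) : Subgroup G := (S : Subgroup G) ⊓ fixingSubgroup G F

theorem kerPart_le_part (S : Sylow 2 G) (F : Set Ω) : kerPart S F ≤ part S F :=
  inf_le_inf_left _ (kernel_le_setStab F)

/-- The data: `R` is the stabiliser of `F` in `S`, and `g` normalises it without preserving `F`. -/
structure Ctx (S : Sylow 2 G) (F : Set Ω) (g : G) : Prop where
  four : Four G Ω
  uniq : Uniq G Ω
  card : F.ncard = 4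
  small : Nat.card (kerPart S F) ≤ 4
  nontrivial : ∃ w ∈ kerPart S F, w ≠ 1
  mem : g ∈ (S : Subgroup G)
  notMem : g ∉ part S F
  norm : ∀ x, (x ∈ part S F ↔ g * x * g⁻¹ ∈ part S F)

namespace Ctx

variable {S : Sylow 2 G} {F : Set Ω} {g : G}

theorem inv_conj_mem (D : Ctx S F g) {x : G} (hx : x ∈ part S F) : g⁻¹ * x * g ∈ part S F :=
  (D.norm _).mpr (by rw [show g * (g⁻¹ * x * g) * g⁻¹ = x by group]; exact hx)

theorem moved (D : Ctx S F g) : g • F ≠ F := fun h => D.notMem ⟨D.mem, mem_stabilizer_iff.mpr h⟩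

theorem part_le_stab_image (D : Ctx S F g) {x : G} (hx : x ∈ part S F) : x ∈ stabilizer G (g • F) := by
  have h := mem_stabilizer_iff.mp (D.inv_conj_mem hx).2
  rw [mul_smul, mul_smul, inv_smul_eq_iff] at h
  exact mem_stabilizer_iff.mpr h

/-- The conjugate kernel. -/
theorem conj_mem_image (D : Ctx S F g) {w : G} (hw : w ∈ kerPart S F) :
    g * w * g⁻¹ ∈ fixingSubgroup G (g • F) ∧ g * w * g⁻¹ ∈ part S F :=
  ⟨mem_kernel_smul_iff.mpr (by rw [show g⁻¹ * (g * w * g⁻¹) * g = w by group]; exact hw.2),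
    (D.norm w).mp (kerPart_le_part S F hw)⟩

theorem image_kernel (D : Ctx S F g) {x : G} (hx : x ∈ part S F) (hk : x ∈ fixingSubgroup G (g • F)) :
    g⁻¹ * x * g ∈ kerPart S F :=
  ⟨(D.inv_conj_mem hx).1, mem_kernel_smul_iff.mp hk⟩

variable [Finite G] [Finite Ω]

theorem fixedBy_eq (D : Ctx S F g) {w : G} (hw : w ∈ fixingSubgroup G F) (hw1 : w ≠ 1) :
    fixedBy Ω w = F := D.four.card_of_mem_kernel D.card hw hw1

theorem fixedBy_eq' (D : Ctx S F g) {w : G} (hw : w ∈ fixingSubgroup G (g • F)) (hw1 : w ≠ 1) :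
    fixedBy Ω w = g • F := D.four.card_of_mem_kernel (by rw [Set.ncard_smul_set, D.card]) hw hw1

theorem eq_one_of_both (D : Ctx S F g) {x : G} (h1 : x ∈ fixingSubgroup G F)
    (h2 : x ∈ fixingSubgroup G (g • F)) : x = 1 := by
  by_contra hx
  exact D.moved ((D.fixedBy_eq' h2 hx).symm.trans (D.fixedBy_eq h1 hx))

theorem commute_image (D : Ctx S F g) {w x : G} (hw : w ∈ kerPart S F) (hx : x ∈ part S F)
    (hk : x ∈ fixingSubgroup G (g • F)) : w * x = x * w := by
  have h1 : w * x * w⁻¹ * x⁻¹ = 1 := D.eq_one_of_both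
    (by rw [show w * x * w⁻¹ * x⁻¹ = w * (x * w⁻¹ * x⁻¹) by group]
        exact mul_mem hw.2 (conj_mem_kernel hx.2 (inv_mem hw.2)))
    (mul_mem (conj_mem_kernel (D.part_le_stab_image (kerPart_le_part S F hw)) hk) (inv_mem hk))
  rwa [mul_inv_eq_one, mul_inv_eq_iff_eq_mul] at h1

/-- An element commuting with a nontrivial element of the kernel preserves the four points. -/
theorem mem_part_of_comm (D : Ctx S F g) {c w : G} (hc : c ∈ (S : Subgroup G)) (hw : w ∈ kerPart S F)
    (hw1 : w ≠ 1) (h : c * w = w * c) : c ∈ part S F :=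
  ⟨hc, D.fixedBy_eq hw.2 hw1 ▸ mem_stab_of_comm h⟩

theorem involution_fix (D : Ctx S F g) {u : G} (hu : u ∈ kerPart S F) (hu1 : u ≠ 1) :
    (fixedBy Ω u).ncard = 4 := by rw [D.fixedBy_eq hu.2 hu1, D.card]

theorem kernel_fix_eq (D : Ctx S F g) {T : Subgroup G} (hT : IsPGroup 2 T) {x : Ω} (hTx : T ≤ stabilizer G x)
    {w v : G} (hw : w ∈ T) (hwK : w ∈ kerPart S F) (hw2 : orderOf w = 2) (hv : v ∈ T) (hv2 : orderOf v = 2) :
    v ∈ fixingSubgroup G F :=
  mem_kernel_iff.mpr fun y hy => by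
    have h := D.uniq T hT x hTx w hw v hv hw2 hv2
    rw [D.fixedBy_eq hwK.2 (ne_one_of_order_two hw2)] at h
    exact (h ▸ hy : y ∈ fixedBy Ω v)

/-- The kernel has order two. -/
theorem sectional_two (D : Ctx S F g) (h2 : Nat.card (kerPart S F) = 2) :
    Cfsg.SectionalPRankLE 2 4 (S : Subgroup G) := by
  obtain ⟨w, hw, hw1⟩ := D.nontrivial
  have hel : ∀ x ∈ kerPart S F, x = 1 ∨ x = w := by
    intro x hx
    by_contra! h
    have h3 : ({1, w, x} : Set G).ncard = 3 := Set.ncard_eq_three.mpr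
      ⟨_, _, _, Ne.symm hw1, Ne.symm h.1, Ne.symm h.2, rfl⟩
    have h4 : ({1, w, x} : Set G) ⊆ (kerPart S F : Set G) := by
      rintro y (rfl | rfl | rfl)
      exacts [one_mem _, hw, hx]
    have := Set.ncard_le_ncard h4 (Set.toFinite _)
    rw [h3, ← Nat.card_coe_set_eq] at this
    exact absurd (this.trans_eq h2) (by norm_num)
  have hww : w * w = 1 := by
    rcases hel _ (mul_mem hw hw) with e | e
    · exact e
    · exact absurd (mul_eq_left.mp e) hw1
  refine sectional_of_small_kernel S hw.1 (order_two hww hw1) (D.involution_fix hw hw1) ?_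
  intro c hc _ hcK
  rw [D.fixedBy_eq hw.2 hw1] at hcK
  exact hel c ⟨hc, hcK⟩

/-- The kernel is cyclic of order four. -/
theorem sectional_cyclic (D : Ctx S F g) (h4 : Nat.card (kerPart S F) = 4) {v : G}
    (hv : v ∈ kerPart S F) (hvv : v * v ≠ 1) : Cfsg.SectionalPRankLE 2 4 (S : Subgroup G) := by
  classical
  have ho : orderOf v = 4 := by
    have hd : orderOf v ∣ 2 ^ 2 := by
      have := Subgroup.orderOf_dvd_natCard (kerPart S F) hv
      rwa [h4] at this
    obtain ⟨i, hi, he⟩ := (Nat.dvd_prime_pow Nat.prime_two).mp hd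
    interval_cases i
    · refine absurd ?_ hvv
      have h1 : v = 1 := orderOf_eq_one_iff.mp (by simpa using he)
      rw [h1, mul_one]
    · refine absurd ?_ hvv
      rw [← pow_two]
      exact orderOf_dvd_iff_pow_eq_one.mp (by rw [he]; norm_num)
    · simpa using he
  have hW : kerPart S F = zpowers v := (Subgroup.eq_of_le_of_card_ge (zpowers_le.mpr hv)
    (by rw [h4, Nat.card_zpowers, ho])).symm
  have hv4 : v * v * (v * v) = 1 := by
    rw [← pow_two, ← pow_two, ← pow_mul, show 2 * 2 = orderOf v by rw [ho], pow_orderOf_eq_one]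
  have hel : ∀ x ∈ kerPart S F, x = 1 ∨ x = v ∨ x = v * v ∨ x = v * (v * v) := by
    intro x hx
    rw [hW, ← mem_powers_iff_mem_zpowers, Submonoid.mem_powers_iff] at hx
    obtain ⟨i, rfl⟩ := hx
    rw [← pow_mod_orderOf, ho]
    have : i % 4 < 4 := Nat.mod_lt _ (by norm_num)
    interval_cases (i % 4)
    · simp
    · simp
    · simp [pow_two]
    · simp [pow_succ, mul_assoc]
  set c := v * v with hc
  have hcW : c ∈ kerPart S F := mul_mem hv hv
  refine Rank.sectional_of_eight S.isPGroup' (t := ⟨c, hcW.1⟩)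
    (by rw [Subgroup.orderOf_mk]; exact order_two hv4 hvv) fun A hA hA8 htA d hd => ?_
  by_contra hdA
  let A' := A.map (S : Subgroup G).subtype
  have hA'8 : Nat.card A' = 8 := by rw [Subgroup.card_map_of_injective (S : Subgroup G).subtype_injective, hA8]
  have hA'sq : ∀ a ∈ A', a * a = 1 := by
    rintro _ ⟨a, ha, rfl⟩
    exact congrArg Subtype.val (hA a ha)
  have hcA' : c ∈ A' := ⟨_, htA, rfl⟩
  have hA'R : A' ≤ part S F := by
    rintro _ ⟨a, ha, rfl⟩
    exact D.mem_part_of_comm a.2 hcW hvv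
      (congrArg (fun s : (S : Subgroup G) => (s : G)) (Rank.comm_of_sq hA ha htA))
  have hdR : (d : G) ∈ part S F := D.mem_part_of_comm d.2 hcW hvv
    (congrArg (fun s : (S : Subgroup G) => (s : G)) (hd _ htA))
  have hdd : ∀ a ∈ A', (d : G) * a = a * d := by
    rintro _ ⟨a, ha, rfl⟩
    exact congrArg (fun s : (S : Subgroup G) => (s : G)) (hd a ha)
  have hmeet : ∀ a ∈ A', a ∈ fixingSubgroup G F → a = 1 ∨ a = c := by
    intro a ha haK
    rcases hel a ⟨(hA'R ha).1, haK⟩ with e | e | e | e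
    · exact Or.inl e
    · exact absurd (by have h := hA'sq a ha; rwa [e] at h) hvv
    · exact Or.inr e
    · refine absurd ?_ hvv
      have h := hA'sq a ha
      rw [e] at h
      calc v * v = (v * v) * ((v * v) * (v * v)) := by rw [hv4, mul_one]
        _ = v * (v * v) * (v * (v * v)) := by group
        _ = 1 := h
  let φ : A' →* Equiv.Perm ↥F := image (hA'R.trans inf_le_right)
  let δ : Equiv.Perm ↥F := permHom F ⟨d, hdR.2⟩
  have hF4 : Nat.card F = 4 := (Nat.card_coe_set_eq F).trans D.card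
  have hrange : 4 ≤ Nat.card φ.range := by
    have h1 := φ.ker.card_mul_index
    rw [Subgroup.index_ker, hA'8] at h1
    have h2 : Nat.card φ.ker ≤ 2 := by
      let r : φ.ker → Bool := fun a => decide ((a : A') = 1)
      have hr : Function.Injective r := by
        intro a b hab
        have hab' := decide_eq_decide.mp hab
        have ha := hmeet _ a.1.2 ((image_eq_one_iff _).mp a.2)
        have hb := hmeet _ b.1.2 ((image_eq_one_iff _).mp b.2)
        apply Subtype.ext; apply Subtype.ext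
        rcases ha with ha | ha <;> rcases hb with hb | hb <;> rw [ha, hb]
        · exact absurd (congrArg Subtype.val (hab'.mp (Subtype.ext ha))) (by rw [hb]; exact hvv)
        · exact absurd (congrArg Subtype.val (hab'.mpr (Subtype.ext hb))) (by rw [ha]; exact hvv)
      simpa using Nat.card_le_card_of_injective r hr
    have h3 : Nat.card φ.ker * Nat.card φ.range ≤ 2 * Nat.card φ.range := Nat.mul_le_mul_right _ h2
    omega
  haveI := Fintype.ofFinite φ.range
  obtain ⟨⟨_, a, rfl⟩, ⟨_, b, rfl⟩, ha1, hb1, hab⟩ : ∃ a b : φ.range, a ≠ 1 ∧ b ≠ 1 ∧ a ≠ b := by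
    have h1 : 2 ≤ ((Finset.univ : Finset φ.range).erase 1).card := by
      rw [Finset.card_erase_of_mem (Finset.mem_univ _), Finset.card_univ, ← Nat.card_eq_fintype_card]
      omega
    obtain ⟨a, ha, b, hb, hab⟩ := Finset.one_lt_card.mp h1
    exact ⟨a, b, (Finset.mem_erase.mp ha).1, (Finset.mem_erase.mp hb).1, hab⟩
  simp only [ne_eq, Subtype.ext_iff, OneMemClass.coe_one] at ha1 hb1 hab
  have hsq : ∀ a : A', a * a = 1 := fun a => Subtype.ext (hA'sq a a.2)
  have hδ : ∀ a : A', δ * φ a = φ a * δ := by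
    intro a
    have h : (⟨d, hdR.2⟩ : stabilizer G F) * ⟨a, (hA'R a.2).2⟩ = ⟨a, (hA'R a.2).2⟩ * ⟨d, hdR.2⟩ :=
      Subtype.ext (hdd a a.2)
    exact (map_mul (permHom F) _ _).symm.trans
      ((congrArg (permHom F) h).trans (map_mul (permHom F) _ _))
  obtain ⟨e, he⟩ : ∃ e : A', δ = φ e := by
    have h := PermFour.cent_four hF4 (a := φ a) (b := φ b) (c := δ)
      (by rw [← map_mul, hsq, map_one]) ha1 (by rw [← map_mul, hsq, map_one]) hb1 hab
      (by rw [← map_mul, ← map_mul]; exact congrArg φ (Subtype.ext (Rank.comm_of_sq hA'sq a.2 b.2)))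
      (hδ a) (hδ b)
    rcases h with h | h | h | h
    · exact ⟨1, h.trans (map_one φ).symm⟩
    · exact ⟨a, h⟩
    · exact ⟨b, h⟩
    · exact ⟨a * b, h.trans (map_mul φ a b).symm⟩
  have hk : (e : G)⁻¹ * d ∈ kerPart S F := by
    refine ⟨(S : Subgroup G).mul_mem ((S : Subgroup G).inv_mem (hA'R e.2).1) d.2, ?_⟩
    have h1 : permHom F ((⟨e, (hA'R e.2).2⟩ : stabilizer G F)⁻¹ * ⟨d, hdR.2⟩) = 1 := by
      rw [map_mul, map_inv]
      show (φ e)⁻¹ * δ = 1
      rw [he, inv_mul_cancel]
    exact permHom_eq_one_iff.mp h1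
  have hkA : ∀ a ∈ A', (e : G)⁻¹ * d * a = a * ((e : G)⁻¹ * d) := by
    intro a ha
    rw [mul_assoc, hdd a ha, ← mul_assoc, ← mul_assoc]
    congr 1
    exact Rank.comm_of_sq hA'sq (inv_mem e.2) ha
  have hmem : ∀ k ∈ A', (e : G) * k = d → False := by
    intro k hk' hek
    refine hdA ?_
    obtain ⟨x, hx, hxe⟩ : (d : G) ∈ A' := hek ▸ mul_mem e.2 hk'
    exact (Subtype.ext hxe : x = d) ▸ hx
  have hvA : ∀ a ∈ A', v * a = a * v := by
    rcases hel _ hk with h | h | h | h
    · exact (hmem 1 (one_mem _) (by rw [mul_one]; exact inv_mul_eq_one.mp h)).elim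
    · exact fun a ha => by rw [← h]; exact hkA a ha
    · exact (hmem c hcA' (eq_mul_of_inv_mul_eq h).symm).elim
    · intro a ha
      have e1 : v = ((e : G)⁻¹ * d) * c := by
        rw [h]
        calc v = v * ((v * v) * (v * v)) := by rw [hv4, mul_one]
          _ = v * (v * v) * (v * v) := by group
      rw [e1, mul_assoc, Rank.comm_of_sq hA'sq hcA' ha, ← mul_assoc, hkA a ha, mul_assoc]
  -- the image of `v` on the other four-set is a four-cycle
  have hvR : v ∈ part S F := kerPart_le_part S F hv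
  have hF4' : Nat.card ↥(g • F) = 4 := by rw [Nat.card_coe_set_eq, Set.ncard_smul_set, D.card]
  let σ : Equiv.Perm ↥(g • F) := permHom (g • F) ⟨v, D.part_le_stab_image hvR⟩
  have hσ : σ * σ ≠ 1 := by
    intro h
    rw [← map_mul, permHom_eq_one_iff] at h
    exact hvv (D.eq_one_of_both hcW.2 h)
  have hσ4 : σ * σ * (σ * σ) = 1 := by
    rw [← map_mul, ← map_mul, permHom_eq_one_iff]
    show v * v * (v * v) ∈ _
    rw [hv4]; exact one_mem _
  have hprod : ∀ a ∈ A', ∃ w ∈ kerPart S F, ∃ x, x ∈ part S F ∧ x ∈ fixingSubgroup G (g • F) ∧ a = w * x := by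
    intro a ha
    have haR := hA'R ha
    have h := PermFour.cent_cycle hF4' (v := σ) (c := permHom (g • F) ⟨a, D.part_le_stab_image haR⟩) hσ hσ4 (by
      rw [← map_mul, ← map_mul]
      exact congrArg _ (Subtype.ext (hvA a ha).symm))
    obtain ⟨w, hwW, hwe⟩ : ∃ w : stabilizer G (g • F), (w : G) ∈ kerPart S F ∧
        permHom (g • F) ⟨a, D.part_le_stab_image haR⟩ = permHom (g • F) w := by
      rcases h with h | h | h | h
      · exact ⟨1, one_mem _, h.trans (map_one _).symm⟩
      · exact ⟨_, hv, h⟩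
      · exact ⟨⟨v, D.part_le_stab_image hvR⟩ * ⟨v, D.part_le_stab_image hvR⟩, mul_mem hv hv,
          h.trans (map_mul _ _ _).symm⟩
      · refine ⟨⟨v, D.part_le_stab_image hvR⟩ * (⟨v, D.part_le_stab_image hvR⟩ * ⟨v, D.part_le_stab_image hvR⟩),
          mul_mem hv (mul_mem hv hv), ?_⟩
        rw [h, map_mul, map_mul]
    refine ⟨(w : G), hwW, (w : G)⁻¹ * a, mul_mem (inv_mem (kerPart_le_part S F hwW)) haR, ?_, by group⟩
    have h1 : permHom (g • F) (w⁻¹ * ⟨a, D.part_le_stab_image haR⟩) = 1 := by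
      rw [map_mul, map_inv, hwe, inv_mul_cancel]
    exact permHom_eq_one_iff.mp h1
  have hsub : (A' : Set G) ⊆ ({1, c, g * c * g⁻¹, c * (g * c * g⁻¹)} : Set G) := by
    intro a ha
    obtain ⟨w, hw, x, hxR, hxK, rfl⟩ := hprod a ha
    have h1 := hA'sq _ ha
    rw [show w * x * (w * x) = w * (x * w) * x by group, ← D.commute_image hw hxR hxK,
      show w * (w * x) * x = w * w * (x * x) by group] at h1
    have hww : w * w = 1 := D.eq_one_of_both (mul_mem hw.2 hw.2)
      (by rw [mul_eq_one_iff_eq_inv.mp h1]; exact inv_mem (mul_mem hxK hxK))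
    have hxx : x * x = 1 := by rwa [hww, one_mul] at h1
    have hsmall : ∀ y ∈ kerPart S F, y * y = 1 → y = 1 ∨ y = c := by
      intro y hy hyy
      rcases hel y hy with e | e | e | e
      · exact Or.inl e
      · exact absurd (by rwa [e] at hyy) hvv
      · exact Or.inr e
      · refine absurd ?_ hvv
        rw [e] at hyy
        calc v * v = (v * v) * ((v * v) * (v * v)) := by rw [hv4, mul_one]
          _ = v * (v * v) * (v * (v * v)) := by group
          _ = 1 := hyy
    have hx' := hsmall _ (D.image_kernel hxR hxK)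
      (by rw [show g⁻¹ * x * g * (g⁻¹ * x * g) = g⁻¹ * (x * x) * g by group, hxx]; group)
    have hx'' : x = g * (g⁻¹ * x * g) * g⁻¹ := by group
    rcases hsmall w hw hww with rfl | rfl <;> rcases hx' with e | e <;> rw [hx'', e] <;> simp
  have h1 := Set.ncard_le_ncard hsub (Set.toFinite _)
  have h2 : ({1, c, g * c * g⁻¹, c * (g * c * g⁻¹)} : Set G).ncard ≤ 4 := by
    refine (Set.ncard_insert_le _ _).trans ?_
    have := Set.ncard_insert_le c {g * c * g⁻¹, c * (g * c * g⁻¹)}
    have := Set.ncard_insert_le (g * c * g⁻¹) {c * (g * c * g⁻¹)}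
    simp only [Set.ncard_singleton] at this
    omega
  rw [← Nat.card_coe_set_eq] at h1
  exact absurd (hA'8.symm.trans_le (h1.trans h2)) (by norm_num)

end Ctx

end CfsgLib.Perm.FixityFour
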