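import Cfsg.Agent.Lib.Perm.FixityFour.EightFour

/-!
Fixity four with degree divisible by eight: sectional 2-rank at most four.
-/

set_option autoImplicit false
set_option linter.style.haveILetI false

namespace CfsgLib.Perm.FixityFour

open MulAction Subgroup
open scoped Pointwise

variable {G Ω : Type*} [Group G] [MulAction G Ω] [Finite G] [Finite Ω]

/-- Degree divisible by eight. -/
theorem eight_dvd (h : Four G Ω) (hU : Uniq G Ω) (hdeg : Nat.card Ω % 8 = 0) {t : G} (ht : orderOf t = 2)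
    {a : Ω} (hta : t • a = a) : ∃ S : Sylow 2 G, Cfsg.SectionalPRankLE 2 4 (S : Subgroup G) := by
  haveI : Fact (Nat.Prime 2) := ⟨Nat.prime_two⟩
  set F := fixedBy Ω t with hFdef
  have hF : F.ncard = 4 := h.inv t ht a hta
  have htK : t ∈ fixingSubgroup G F := mem_kernel_iff.mpr fun x hx => hx
  obtain ⟨S, hS⟩ : ∃ S : Sylow 2 G, t ∈ (S : Subgroup G) := by
    have h2 : IsPGroup 2 (zpowers t) := IsPGroup.of_card (n := 1) (by rw [Nat.card_zpowers, ht, pow_one])
    obtain ⟨S, hS⟩ := h2.exists_le_sylow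
    exact ⟨S, hS (mem_zpowers t)⟩
  have hsmall : Nat.card (kerPart S F) ≤ 4 := by
    have hd := h.card_kernel_dvd hF (W := kerPart S F) inf_le_right
    have hp : IsPGroup 2 (kerPart S F) := S.isPGroup'.to_le inf_le_left
    obtain ⟨k, hk⟩ := hp.exists_card_eq
    rw [hk] at hd ⊢
    have hn4 : 4 ≤ Nat.card Ω := by
      rw [← hF, ← Set.ncard_univ]
      exact Set.ncard_le_ncard (Set.subset_univ _) (Set.toFinite _)
    have hk2 : k ≤ 2 := by
      by_contra hlt
      have h8 : 8 ∣ Nat.card Ω - 4 :=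
        dvd_trans (by rw [show (8 : ℕ) = 2 ^ 3 by norm_num]; exact Nat.pow_dvd_pow 2 (by omega)) hd
      omega
    exact (Nat.pow_le_pow_right (by norm_num) hk2).trans_eq (by norm_num)
  have htW : t ∈ kerPart S F := ⟨hS, htK⟩
  by_cases hle : (S : Subgroup G) ≤ part S F
  · exact ⟨S, small_sylow S hF (hle.trans inf_le_right) hsmall⟩
  obtain ⟨g, hg, hgR, hgn⟩ := exists_normalizer_gt S (inf_le_left : part S F ≤ _) hle
  have D : Ctx S F g := ⟨h, hU, hF, hsmall, ⟨t, htW, ne_one_of_order_two ht⟩, hg, hgR, hgn⟩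
  refine ⟨S, ?_⟩
  have hp : IsPGroup 2 (kerPart S F) := S.isPGroup'.to_le inf_le_left
  obtain ⟨k, hk⟩ := hp.exists_card_eq
  have hk2 : k ≤ 2 := by
    by_contra hlt
    have h8 : 2 ^ 3 ≤ 2 ^ k := Nat.pow_le_pow_right (by norm_num) (by omega)
    omega
  interval_cases k
  · exfalso
    rw [pow_zero, Subgroup.card_eq_one] at hk
    exact ne_one_of_order_two ht (Subgroup.mem_bot.mp (hk ▸ htW))
  · exact D.sectional_two (hk.trans (by norm_num))
  · by_cases hsq : ∀ w ∈ kerPart S F, w * w = 1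
    · exact D.sectional_elementary (hk.trans (by norm_num)) hsq
    · simp only [not_forall] at hsq
      obtain ⟨v, hv, hvv⟩ := hsq
      exact D.sectional_cyclic (hk.trans (by norm_num)) hv hvv

end CfsgLib.Perm.FixityFour
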