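import Cfsg.Agent.Lib.Perm.FixityFour.EightRegular

/-!
Fixity four, degree divisible by eight, elementary kernel of order four: the Sylow 2-subgroup has
order at most 128 and sectional rank at most four.
-/

set_option autoImplicit false
set_option linter.style.haveILetI false

namespace CfsgLib.Perm.FixityFour

open MulAction Subgroup
open scoped Pointwise
open LocalEvenB.SelfCentralEight.Sections (Sec BoundBy)

variable {G Ω : Type*} [Group G] [MulAction G Ω]

/-- A subgroup inside the union of two subgroups lies in one of them. -/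
theorem le_or_le {X A B : Subgroup G} (h : ∀ x ∈ X, x ∈ A ∨ x ∈ B) : X ≤ A ∨ X ≤ B := by
  by_contra hcon
  simp only [not_or, SetLike.not_le_iff_exists] at hcon
  obtain ⟨⟨a, ha, haA⟩, b, hb, hbB⟩ := hcon
  have haB := (h a ha).resolve_left haA
  have hbA := (h b hb).resolve_right hbB
  rcases h _ (mul_mem ha hb) with e | e
  · exact haA (by simpa using mul_mem e (inv_mem hbA))
  · exact hbB (by simpa using mul_mem (inv_mem haB) e)

namespace Ctx

variable [Finite G] [Finite Ω] {S : Sylow 2 G} {F : Set Ω} {g : G}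

/-- The normaliser of the stabiliser of the four points in the Sylow subgroup. -/
def nrm (S : Sylow 2 G) (F : Set Ω) : Subgroup G :=
  (S : Subgroup G) ⊓ normalizer (part S F : Set G)

variable (D : Ctx S F g)

include D

omit [Finite G] [Finite Ω] in
theorem part_le_nrm : part S F ≤ nrm S F := le_inf inf_le_left le_normalizer

theorem comm_conj {x w c : G} (hx : x ∈ nrm S F) (hw : w ∈ kerPart S F) (hw1 : w ≠ 1)
    (hc : c ∈ (S : Subgroup G)) (h : c * (x * w * x⁻¹) = x * w * x⁻¹ * c) : c ∈ part S F := by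
  have h1 : x⁻¹ * c * x ∈ part S F := D.mem_part_of_comm
    ((S : Subgroup G).mul_mem ((S : Subgroup G).mul_mem ((S : Subgroup G).inv_mem hx.1) hc) hx.1) hw hw1 (by
    calc x⁻¹ * c * x * w = x⁻¹ * (c * (x * w * x⁻¹)) * x := by group
      _ = x⁻¹ * (x * w * x⁻¹ * c) * x := by rw [h]
      _ = w * (x⁻¹ * c * x) := by group)
  have h2 := (mem_normalizer_iff.mp hx.2 _).mp h1
  rwa [show x * (x⁻¹ * c * x) * x⁻¹ = c by group] at h2

variable (h4 : Nat.card (kerPart S F) = 4) (hsq : ∀ w ∈ kerPart S F, w * w = 1)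

include h4 hsq

theorem exists_kernel_mem {X : Subgroup G} (hX : X ≤ part S F) (h8 : 8 ≤ Nat.card X) :
    ∃ w ∈ kerPart S F, w ≠ 1 ∧ w ∈ X := by
  have h := card_inf_ge (kerPart_le_part S F) hX
  rw [h4, card_part D h4 hsq] at h
  obtain ⟨w, hw, hw1⟩ := exists_ne_one_of_two_le (X := X ⊓ kerPart S F) (by omega)
  exact ⟨w, hw.2, hw1, hw.1⟩

theorem le_part_of_comm {X : Subgroup G} (hX : X ≤ (S : Subgroup G))
    (hc : ∀ x ∈ X, x * x = 1) (h8 : 8 ≤ Nat.card ↥(X ⊓ part S F)) : X ≤ part S F := by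
  obtain ⟨w, hw, hw1, hwX⟩ := exists_kernel_mem D h4 hsq inf_le_right h8
  exact fun x hx => D.mem_part_of_comm (hX hx) hw hw1 (Rank.comm_of_sq hc hx hwX.1)

omit h4 hsq D [Finite Ω] in
theorem card_conj (h : G) (X : Subgroup G) :
    Nat.card ↥(X.map (MulAut.conj h).toMonoidHom) = Nat.card X :=
  Subgroup.card_map_of_injective (MulAut.conj h).injective

theorem conj_sq {h x : G} (hx : x ∈ (part S F).map (MulAut.conj h).toMonoidHom) : x * x = 1 := by
  obtain ⟨y, hy, rfl⟩ := hx
  rw [← map_mul, part_sq D h4 hsq hy, map_one]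

omit h4 hsq D [Finite Ω] [Finite G] in
theorem conj_le {X Y : Subgroup G} {h : G} (hX : X ≤ Y) (hn : ∀ y, (y ∈ Y ↔ h * y * h⁻¹ ∈ Y)) :
    X.map (MulAut.conj h).toMonoidHom ≤ Y := by
  rintro _ ⟨x, hx, rfl⟩
  exact (hn x).mp (hX hx)

/-- No conjugate of the stabiliser other than itself meets it in eight elements. -/
theorem mem_nrm_of_big {h : G} (hh : h ∈ (S : Subgroup G))
    (h8 : 8 ≤ Nat.card ↥((part S F).map (MulAut.conj h).toMonoidHom ⊓ part S F)) : h ∈ nrm S F := by
  have hXS : (part S F).map (MulAut.conj h).toMonoidHom ≤ (S : Subgroup G) := by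
    rintro _ ⟨x, hx, rfl⟩
    exact (S : Subgroup G).mul_mem ((S : Subgroup G).mul_mem hh hx.1) ((S : Subgroup G).inv_mem hh)
  have hle := le_part_of_comm D h4 hsq hXS (fun x hx => conj_sq D h4 hsq hx) h8
  have heq := Subgroup.eq_of_le_of_card_ge hle (by rw [card_conj])
  exact ⟨hh, Subgroup.mem_normalizer_iff_map_conj_eq.mpr heq⟩

/-- The index of the stabiliser in its normaliser is two or four. -/
theorem card_nrm : Nat.card (nrm S F) = 32 ∨ Nat.card (nrm S F) = 64 := by
  haveI : Fact (Nat.Prime 2) := ⟨Nat.prime_two⟩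
  set R := part S F with hR
  set q := (nrm S F) ⧸ R.subgroupOf (nrm S F)
  let A : Set G := (kerPart S F : Set G) \ {1}
  let f : q × A → ↥((R : Set G) \ {1}) := fun u =>
    ⟨(u.1.out : G) * u.2.1 * (u.1.out : G)⁻¹,
      (mem_normalizer_iff.mp u.1.out.2.2 _).mp (kerPart_le_part S F u.2.2.1),
      fun e => u.2.2.2 (conj_eq_one_iff.mp e)⟩
  have hf : Function.Injective f := by
    rintro ⟨a, ⟨v, hv⟩⟩ ⟨b, ⟨w, hw⟩⟩ e
    have e' : (a.out : G) * v * (a.out : G)⁻¹ = (b.out : G) * w * (b.out : G)⁻¹ := congrArg Subtype.val e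
    have hab : a = b := by
      rw [← QuotientGroup.out_eq' a, ← QuotientGroup.out_eq' b, QuotientGroup.eq, mem_subgroupOf]
      push_cast
      refine ⟨(S : Subgroup G).mul_mem ((S : Subgroup G).inv_mem a.out.2.1) b.out.2.1,
        mem_stabilizer_iff.mpr ?_⟩
      have h1 := congrArg (fixedBy Ω) e'
      rw [fixedBy_conj, fixedBy_conj, D.fixedBy_eq hv.1.2 hv.2, D.fixedBy_eq hw.1.2 hw.2] at h1
      rw [mul_smul, ← h1, inv_smul_smul]
    subst hab
    exact Prod.ext rfl (Subtype.ext (mul_left_cancel (mul_right_cancel e')))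
  have hle := Nat.card_le_card_of_injective f hf
  rw [Nat.card_prod, Nat.card_coe_set_eq A, Nat.card_coe_set_eq,
    Set.ncard_sdiff_singleton_of_mem (one_mem (kerPart S F)),
    Set.ncard_sdiff_singleton_of_mem (one_mem R), ← Nat.card_coe_set_eq, ← Nat.card_coe_set_eq] at hle
  simp only [SetLike.coe_sort_coe, h4, hR, card_part D h4 hsq] at hle
  have hmul : Nat.card q * 16 = Nat.card (nrm S F) := by
    rw [← card_part D h4 hsq, ← Nat.card_congr (subgroupOfEquivOfLe (part_le_nrm D)).toEquiv]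
    exact (Subgroup.card_eq_card_quotient_mul_card_subgroup _).symm
  have hp : IsPGroup 2 (nrm S F) := S.isPGroup'.to_le inf_le_left
  obtain ⟨n, hn⟩ := hp.index (R.subgroupOf (nrm S F))
  have hq : Nat.card q = 2 ^ n := hn
  rw [← hmul, hq]
  rw [hq] at hle
  have hn2 : n ≤ 2 := by
    by_contra hlt
    have : 2 ^ 3 ≤ 2 ^ n := Nat.pow_le_pow_right (by norm_num) (by omega)
    omega
  have hn0 : n ≠ 0 := by
    intro e
    rw [e, pow_zero] at hn
    have hgn : g ∈ nrm S F := ⟨D.mem, mem_normalizer_iff.mpr D.norm⟩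
    exact D.notMem (mem_subgroupOf.mp ((Subgroup.index_eq_one.mp hn).symm ▸ mem_top (⟨g, hgn⟩ : nrm S F)))
  interval_cases n <;> first | omega | norm_num

/-- Sections of order above sixteen are small. -/
theorem section_small {K N : Subgroup G} (hS : Nat.card (S : Subgroup G) ≤ 128)
    (hK : K ≤ (S : Subgroup G)) (hKN : Sec K N) (hbig : 16 < N.relIndex K) :
    Nat.card K = 32 ∧ ∀ x ∈ K, x * x = 1 := by
  haveI : Fact (Nat.Prime 2) := ⟨Nat.prime_two⟩
  have hmul := LocalEvenB.SelfCentralEight.Sections.relIndex_mul_card hKN.1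
  have hN1 : 0 < Nat.card N := Nat.card_pos
  obtain ⟨n, hn⟩ := (S.isPGroup'.to_le hK).exists_card_eq
  rcases Nat.lt_or_ge n 6 with hlt | hge
  · have h32 : Nat.card K ≤ 32 := hn ▸ (Nat.pow_le_pow_right (by norm_num) (show n ≤ 5 by omega)).trans_eq (by norm_num)
    have hn5 : n = 5 := by
      by_contra hne
      have h16 : 2 ^ n ≤ 16 := (Nat.pow_le_pow_right (by norm_num) (show n ≤ 4 by omega)).trans_eq (by norm_num)
      have : N.relIndex K ≤ Nat.card K := LocalEvenB.SelfCentralEight.Sections.relIndex_le_card hKN.1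
      omega
    subst hn5
    have hN : Nat.card N = 1 := by
      by_contra hne
      have : N.relIndex K * 2 ≤ N.relIndex K * Nat.card N := Nat.mul_le_mul_left _ (by omega)
      norm_num at hn
      omega
    refine ⟨hn.trans (by norm_num), fun x hx => ?_⟩
    have h1 := hKN.2 x hx
    rwa [Subgroup.eq_bot_of_card_eq N hN, Subgroup.mem_bot] at h1
  exfalso
  have h64 : 64 ≤ Nat.card K := hn ▸ (show (64 : ℕ) = 2 ^ 6 by norm_num) ▸ Nat.pow_le_pow_right (by norm_num) hge
  have hinf := card_inf_ge (A := part S F) (B := (S : Subgroup G)) inf_le_left hK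
  rw [card_part D h4 hsq] at hinf
  have h8 : 8 ≤ Nat.card ↥(K ⊓ part S F) := by
    by_contra hlt
    have : Nat.card ↥(K ⊓ part S F) * Nat.card (S : Subgroup G) ≤ 7 * 128 := Nat.mul_le_mul (by omega) hS
    omega
  obtain ⟨w, hw, hw1, hwK⟩ := exists_kernel_mem D h4 hsq inf_le_right h8
  have hcl := class_le hKN hwK.1
  have hCK : centralizer ({w} : Set G) ⊓ K ≤ part S F := fun c hc =>
    D.mem_part_of_comm (hK hc.2) hw hw1 (mem_centralizer_singleton_iff.mp hc.1)
  have h16 := (card_le_of_le hCK).trans_eq (card_part D h4 hsq)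
  have h1 := LocalEvenB.SelfCentralEight.Sections.relIndex_mul_card
    (inf_le_right : centralizer ({w} : Set G) ⊓ K ≤ K)
  rw [inf_relIndex_right] at h1
  have h2 : Nat.card K ≤ Nat.card N * 16 := h1 ▸ Nat.mul_le_mul hcl h16
  rw [← hmul] at h2
  have h3 : Nat.card N * 16 < N.relIndex K * Nat.card N := by
    rw [mul_comm (N.relIndex K)]
    exact Nat.mul_lt_mul_of_pos_left hbig hN1
  omega

/-- The kernel is elementary of order four. -/
theorem sectional_elementary : Cfsg.SectionalPRankLE 2 4 (S : Subgroup G) := by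
  classical
  haveI : Fact (Nat.Prime 2) := ⟨Nat.prime_two⟩
  refine LocalEvenB.SelfCentralEight.Sections.sectional_of_boundBy (k := 4) ?_
  obtain ⟨w₀, hw₀, hw₀1⟩ := D.nontrivial
  have hR16 := card_part D h4 hsq
  have hgn : g ∈ nrm S F := ⟨D.mem, mem_normalizer_iff.mpr D.norm⟩
  have hNS : nrm S F ≤ (S : Subgroup G) := inf_le_left
  have hN2 := card_nrm D h4 hsq
  by_cases hNeq : (S : Subgroup G) ≤ nrm S F
  · have hSN : nrm S F = (S : Subgroup G) := le_antisymm hNS hNeq
    rw [hSN] at hN2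
    rcases hN2 with hS | hS
    · refine Rank.boundBy_half (k := 4) hS ?_
      by_contra! hall
      have hsqS : ∀ x ∈ (S : Subgroup G), x * x = 1 := fun x hx => congrArg Subtype.val (hall ⟨x, hx⟩)
      exact D.notMem (D.mem_part_of_comm D.mem hw₀ hw₀1 (Rank.comm_of_sq hsqS D.mem hw₀.1))
    · refine boundBy_of_inside fun K N hK hKN => ?_
      by_contra! hbig
      obtain ⟨hK32, hKsq⟩ := section_small D h4 hsq (by rw [hS]; norm_num) hK hKN (by simpa using hbig)
      have hinf := card_inf_ge (A := part S F) (B := (S : Subgroup G)) inf_le_left hK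
      rw [hK32, hR16, hS] at hinf
      have := card_le_of_le (le_part_of_comm D h4 hsq hK hKsq (by omega))
      omega
  obtain ⟨h, hhS, hhN, hhn⟩ := exists_normalizer_gt S hNS hNeq
  set B := (part S F).map (MulAut.conj h).toMonoidHom with hB
  have hBN : B ≤ nrm S F := conj_le (part_le_nrm D) hhn
  have hB16 : Nat.card B = 16 := by rw [hB, card_conj, hR16]
  have hinfB := card_inf_ge (part_le_nrm D) hBN
  rw [hB16, hR16] at hinfB
  have hC8 : ¬ 8 ≤ Nat.card ↥(B ⊓ part S F) := fun h8 => hhN (mem_nrm_of_big D h4 hsq hhS h8)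
  have hN64 : Nat.card (nrm S F) = 64 := by
    rcases hN2 with e | e
    · rw [e] at hinfB; omega
    · exact e
  rw [hN64] at hinfB
  have hC4 : Nat.card ↥(B ⊓ part S F) = 4 := by
    obtain ⟨c, hc⟩ := ((S.isPGroup'.to_le inf_le_left).to_le (inf_le_right : B ⊓ part S F ≤ part S F)).exists_card_eq
    rw [hc] at hinfB hC8 ⊢
    have : c ≤ 2 := by
      by_contra hlt
      exact hC8 ((show (8 : ℕ) = 2 ^ 3 by norm_num) ▸ Nat.pow_le_pow_right (by norm_num) (by omega))
    interval_cases c <;> omega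
  have hdecomp : ∀ x ∈ nrm S F, ∃ b ∈ B, b⁻¹ * x ∈ part S F := by
    intro x hx
    let e := Subgroup.quotientSubgroupOfEmbeddingOfLE (part S F) hBN
    have hcard : Nat.card (B ⧸ (part S F).subgroupOf B) = Nat.card ((nrm S F) ⧸ (part S F).subgroupOf (nrm S F)) := by
      have h1 := LocalEvenB.SelfCentralEight.Sections.relIndex_mul_card (inf_le_left : B ⊓ part S F ≤ B)
      rw [inf_relIndex_left, hC4, hB16] at h1
      have h2 := LocalEvenB.SelfCentralEight.Sections.relIndex_mul_card (part_le_nrm D)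
      rw [hR16, hN64] at h2
      show (part S F).relIndex B = (part S F).relIndex (nrm S F)
      omega
    haveI := Fintype.ofFinite (B ⧸ (part S F).subgroupOf B)
    haveI := Fintype.ofFinite ((nrm S F) ⧸ (part S F).subgroupOf (nrm S F))
    have hbij : Function.Bijective e := (Fintype.bijective_iff_injective_and_card e).mpr
      ⟨e.injective, by rw [← Nat.card_eq_fintype_card, ← Nat.card_eq_fintype_card, hcard]⟩
    obtain ⟨q, hq⟩ := hbij.2 (QuotientGroup.mk ⟨x, hx⟩)
    obtain ⟨b, rfl⟩ := QuotientGroup.mk_surjective q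
    refine ⟨b, b.2, ?_⟩
    have h3 : (QuotientGroup.mk (⟨b, hBN b.2⟩ : nrm S F) : (nrm S F) ⧸ _) = QuotientGroup.mk ⟨x, hx⟩ := hq
    exact mem_subgroupOf.mp (QuotientGroup.eq.mp h3)
  have hcover : ∀ a ∈ part S F, a ∉ B → ∃ x ∈ nrm S F, ∃ w ∈ kerPart S F, w ≠ 1 ∧ a = x * w * x⁻¹ := by
    let A : Set G := (kerPart S F : Set G) \ {1}
    let f : ((nrm S F) ⧸ (part S F).subgroupOf (nrm S F)) × A → ↥((part S F : Set G) \ (B : Set G)) := fun u =>
      ⟨(u.1.out : G) * u.2.1 * (u.1.out : G)⁻¹,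
        (mem_normalizer_iff.mp u.1.out.2.2 _).mp (kerPart_le_part S F u.2.2.1), fun hu => by
          refine hhN (mem_nrm_of_big D h4 hsq hhS ?_)
          have hle : B ≤ part S F := fun b hb => comm_conj D u.1.out.2 u.2.2.1 u.2.2.2 (hNS (hBN hb))
            (Rank.comm_of_sq (fun y hy => conj_sq D h4 hsq hy) hb hu)
          rw [← hB, inf_eq_left.mpr hle, hB16]
          norm_num⟩
    have hf : Function.Injective f := by
      rintro ⟨a, ⟨v, hv⟩⟩ ⟨b, ⟨w, hw⟩⟩ e
      have e' : (a.out : G) * v * (a.out : G)⁻¹ = (b.out : G) * w * (b.out : G)⁻¹ := congrArg Subtype.val e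
      have hab : a = b := by
        rw [← QuotientGroup.out_eq' a, ← QuotientGroup.out_eq' b, QuotientGroup.eq, mem_subgroupOf]
        push_cast
        refine ⟨(S : Subgroup G).mul_mem ((S : Subgroup G).inv_mem a.out.2.1) b.out.2.1,
          mem_stabilizer_iff.mpr ?_⟩
        have h1 := congrArg (fixedBy Ω) e'
        rw [fixedBy_conj, fixedBy_conj, D.fixedBy_eq hv.1.2 hv.2, D.fixedBy_eq hw.1.2 hw.2] at h1
        rw [mul_smul, ← h1, inv_smul_smul]
      subst hab
      exact Prod.ext rfl (Subtype.ext (mul_left_cancel (mul_right_cancel e')))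
    have hcard : Nat.card ↥((part S F : Set G) \ (B : Set G)) ≤
        Nat.card (((nrm S F) ⧸ (part S F).subgroupOf (nrm S F)) × A) := by
      rw [Nat.card_prod, Nat.card_coe_set_eq, Nat.card_coe_set_eq A,
        Set.ncard_sdiff_singleton_of_mem (one_mem (kerPart S F))]
      have h1 : ((part S F : Set G) \ (B : Set G)).ncard + ((B ⊓ part S F : Subgroup G) : Set G).ncard =
          (part S F : Set G).ncard := by
        rw [Subgroup.coe_inf, Set.inter_comm, add_comm]
        exact Set.ncard_inter_add_ncard_sdiff_eq_ncard _ _ (Set.toFinite _)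
      rw [← Nat.card_coe_set_eq (((B ⊓ part S F : Subgroup G)) : Set G),
        ← Nat.card_coe_set_eq ((part S F : Subgroup G) : Set G)] at h1
      simp only [SetLike.coe_sort_coe, hC4, hR16] at h1
      rw [← Nat.card_coe_set_eq ((kerPart S F : Subgroup G) : Set G)]
      simp only [SetLike.coe_sort_coe, h4]
      have h2 : Nat.card ((nrm S F) ⧸ (part S F).subgroupOf (nrm S F)) = 4 := by
        have h3 := LocalEvenB.SelfCentralEight.Sections.relIndex_mul_card (part_le_nrm D)
        rw [hR16, hN64] at h3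
        show (part S F).relIndex (nrm S F) = 4
        omega
      omega
    intro a ha haB
    obtain ⟨⟨q, ⟨w, hw⟩⟩, hq⟩ := ((Nat.bijective_iff_injective_and_card f).mpr
      ⟨hf, le_antisymm (Nat.card_le_card_of_injective f hf) hcard⟩).2 ⟨a, ha, haB⟩
    exact ⟨_, q.out.2, w, hw.1, hw.2, (congrArg Subtype.val hq).symm⟩
  have hinvol : ∀ x ∈ nrm S F, x * x = 1 → x ∈ part S F ∨ x ∈ B := by
    intro x hx hxx
    obtain ⟨b, hb, hbx⟩ := hdecomp x hx
    have haa := part_sq D h4 hsq hbx
    have hbb := conj_sq D h4 hsq hb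
    set a := b⁻¹ * x with ha
    have hxba : x = b * a := by rw [ha]; group
    have hab : a * b = b * a := by
      calc a * b = a⁻¹ * b⁻¹ := by
            rw [inv_eq_of_mul_eq_one_left hbb, inv_eq_of_mul_eq_one_left haa]
        _ = (b * a)⁻¹ := (mul_inv_rev b a).symm
        _ = b * a := inv_eq_of_mul_eq_one_left (by rw [← hxba, hxx])
    by_cases haB : a ∈ B
    · exact Or.inr (hxba ▸ mul_mem hb haB)
    · obtain ⟨y, hy, w, hw, hw1, hyw⟩ := hcover a hbx haB
      exact Or.inl (hxba ▸ mul_mem (comm_conj D hy hw hw1 (hNS (hBN hb)) (hyw ▸ hab.symm)) hbx)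
  set N₁ := (S : Subgroup G) ⊓ normalizer (nrm S F : Set G) with hN₁
  have hNN₁ : nrm S F ≤ N₁ := le_inf hNS le_normalizer
  have hhN₁ : h ∈ N₁ := ⟨hhS, mem_normalizer_iff.mpr hhn⟩
  have hback : ∀ y, y ∈ (part S F).map (MulAut.conj h).toMonoidHom → h⁻¹ * y * h ∈ part S F := by
    rintro _ ⟨z, hz, rfl⟩
    show h⁻¹ * (h * z * h⁻¹) * h ∈ part S F
    rw [show h⁻¹ * (h * z * h⁻¹) * h = z by group]
    exact hz
  have helem : ∀ y ∈ (S : Subgroup G), 8 ≤ Nat.card ↥((part S F).map (MulAut.conj y).toMonoidHom ⊓ nrm S F) →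
      y ∈ nrm S F ∨ h⁻¹ * y ∈ nrm S F := by
    intro y hy h8
    rcases le_or_le (X := (part S F).map (MulAut.conj y).toMonoidHom ⊓ nrm S F) fun x hx =>
      hinvol x hx.2 (conj_sq D h4 hsq hx.1) with e | e
    · exact Or.inl (mem_nrm_of_big D h4 hsq hy (h8.trans (card_le_of_le (le_inf inf_le_left e))))
    · refine Or.inr (mem_nrm_of_big D h4 hsq
        ((S : Subgroup G).mul_mem ((S : Subgroup G).inv_mem hhS) hy) (h8.trans ?_))
      rw [← card_conj h⁻¹]
      refine card_le_of_le ?_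
      rintro _ ⟨x, hx, rfl⟩
      obtain ⟨z, hz, rfl⟩ := (hx.1 : x ∈ (part S F).map (MulAut.conj y).toMonoidHom)
      refine ⟨⟨z, hz, ?_⟩, ?_⟩
      · show h⁻¹ * y * z * (h⁻¹ * y)⁻¹ = h⁻¹ * (y * z * y⁻¹) * (h⁻¹)⁻¹
        group
      · show h⁻¹ * _ * (h⁻¹)⁻¹ ∈ part S F
        rw [inv_inv]
        exact hback _ (e hx)
  have hN₁card : Nat.card N₁ ≤ 128 := by
    let f : N₁ ⧸ (nrm S F).subgroupOf N₁ → Bool := fun q => decide ((q.out : G) ∈ nrm S F)
    have hf : Function.Injective f := by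
      intro a b hab
      have hab' := decide_eq_decide.mp hab
      rw [← QuotientGroup.out_eq' a, ← QuotientGroup.out_eq' b, QuotientGroup.eq, mem_subgroupOf]
      push_cast
      have key : ∀ y ∈ N₁, y ∈ nrm S F ∨ h⁻¹ * y ∈ nrm S F := by
        intro y hy
        refine helem y hy.1 ?_
        rw [inf_eq_left.mpr (conj_le (part_le_nrm D) (mem_normalizer_iff.mp hy.2)), card_conj, hR16]
        norm_num
      rcases key _ a.out.2 with ea | ea
      · exact mul_mem (inv_mem ea) (hab'.mp ea)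
      · rcases key _ b.out.2 with eb | eb
        · exact mul_mem (inv_mem (hab'.mpr eb)) eb
        · have := mul_mem (inv_mem ea) eb
          simpa [mul_assoc] using this
    have h2 := Nat.card_le_card_of_injective f hf
    rw [Nat.card_eq_fintype_card (α := Bool), Fintype.card_bool] at h2
    have h3 := LocalEvenB.SelfCentralEight.Sections.relIndex_mul_card hNN₁
    rw [hN64] at h3
    have h2' : (nrm S F).relIndex N₁ ≤ 2 := h2
    omega
  have hS128 : Nat.card (S : Subgroup G) ≤ 128 := by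
    by_cases hN₁S : (S : Subgroup G) ≤ N₁
    · exact (card_le_of_le hN₁S).trans hN₁card
    exfalso
    obtain ⟨y, hyS, hyN, hyn⟩ := exists_normalizer_gt S (inf_le_left : N₁ ≤ _) hN₁S
    have hX : (part S F).map (MulAut.conj y).toMonoidHom ≤ N₁ :=
      conj_le ((part_le_nrm D).trans hNN₁) hyn
    have hinf := card_inf_ge hNN₁ hX
    rw [card_conj, hR16, hN64] at hinf
    have h8 : 8 ≤ Nat.card ↥((part S F).map (MulAut.conj y).toMonoidHom ⊓ nrm S F) := by
      by_contra hlt
      have : Nat.card ↥((part S F).map (MulAut.conj y).toMonoidHom ⊓ nrm S F) * Nat.card N₁ ≤ 7 * 128 :=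
        Nat.mul_le_mul (by omega) hN₁card
      omega
    rcases helem y hyS h8 with e | e
    · exact hyN (hNN₁ e)
    · have := mul_mem hhN₁ (hNN₁ e)
      rw [mul_inv_cancel_left] at this
      exact hyN this
  refine boundBy_of_inside fun K N hK hKN => ?_
  by_contra! hbig
  obtain ⟨hK32, hKsq⟩ := section_small D h4 hsq hS128 hK hKN (by simpa using hbig)
  have hinf := card_inf_ge hNS hK
  rw [hK32, hN64] at hinf
  have h16 : 16 ≤ Nat.card ↥(K ⊓ nrm S F) := by
    by_contra hlt
    have : Nat.card ↥(K ⊓ nrm S F) * Nat.card (S : Subgroup G) ≤ 15 * 128 := Nat.mul_le_mul (by omega) hS128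
    omega
  have hbound : ∀ K' : Subgroup G, K' ≤ (S : Subgroup G) → (∀ x ∈ K', x * x = 1) →
      16 ≤ Nat.card ↥(K' ⊓ part S F) → Nat.card K' ≤ 16 := fun K' hK' hsq' h16' =>
    (card_le_of_le (le_part_of_comm D h4 hsq hK' hsq' (by omega))).trans_eq hR16
  rcases le_or_le (X := K ⊓ nrm S F) fun x hx => hinvol x hx.2 (hKsq x hx.1) with e | e
  · have := hbound K hK hKsq (h16.trans (card_le_of_le (le_inf inf_le_left e)))
    omega
  · have := hbound (K.map (MulAut.conj h⁻¹).toMonoidHom) ?_ ?_ ?_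
    · rw [card_conj, hK32] at this; omega
    · rintro _ ⟨x, hx, rfl⟩
      exact (S : Subgroup G).mul_mem ((S : Subgroup G).mul_mem ((S : Subgroup G).inv_mem hhS) (hK hx))
        ((S : Subgroup G).inv_mem ((S : Subgroup G).inv_mem hhS))
    · rintro _ ⟨x, hx, rfl⟩
      rw [← map_mul, hKsq x hx, map_one]
    · refine h16.trans ?_
      rw [← card_conj h⁻¹]
      refine card_le_of_le ?_
      rintro _ ⟨x, hx, rfl⟩
      refine ⟨⟨x, hx.1, rfl⟩, ?_⟩
      show h⁻¹ * x * (h⁻¹)⁻¹ ∈ part S F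
      rw [inv_inv]
      exact hback _ (e hx)

end Ctx

end CfsgLib.Perm.FixityFour
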