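import Cfsg.Agent.Lib.Perm.FixityFour.EightCtx

/-!
Fixity four, degree divisible by eight, elementary kernel of order four: the stabiliser of the four
points is the product of the kernel and its conjugate, elementary of order sixteen.
-/

set_option autoImplicit false
set_option linter.style.haveILetI false

namespace CfsgLib.Perm.FixityFour

open MulAction Subgroup
open scoped Pointwise

variable {G Ω : Type*} [Group G] [MulAction G Ω] [Finite G] [Finite Ω]

set_option maxRecDepth 20000 in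
theorem perm_four_pow_four_fin : ∀ s : Equiv.Perm (Fin 4), s ^ 8 = 1 → s * s * (s * s) = 1 := by
  decide +kernel

theorem perm_four_pow_four {α : Type*} [Finite α] (h : Nat.card α = 4) {s : Equiv.Perm α} (hs : s ^ 8 = 1) :
    s * s * (s * s) = 1 := by
  apply (PermFour.iso h).injective
  rw [map_mul, map_mul, map_one]
  exact perm_four_pow_four_fin _ (by rw [← map_pow, hs, map_one])

namespace Ctx

variable {S : Sylow 2 G} {F : Set Ω} {g : G}

omit [Finite G] [Finite Ω] in
theorem conj_kernel_iff (S : Sylow 2 G) {F : Set Ω} {g x : G}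
    (hx : x ∈ part S F) (hn : ∀ y, (y ∈ part S F ↔ g * y * g⁻¹ ∈ part S F)) :
    g * x * g⁻¹ ∈ fixingSubgroup G (g • F) ↔ x ∈ kerPart S F := by
  rw [mem_kernel_smul_iff, show g⁻¹ * (g * x * g⁻¹) * g = x by group]
  exact ⟨fun h => ⟨hx.1, h⟩, fun h => h.2⟩

variable (D : Ctx S F g) (h4 : Nat.card (kerPart S F) = 4) (hsq : ∀ w ∈ kerPart S F, w * w = 1)

include D hsq

/-- The conjugate kernel has no fixed point on the four points. -/
theorem conj_fpf {w : G} (hw : w ∈ kerPart S F) (hw1 : w ≠ 1) {x : Ω} (hx : x ∈ F)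
    (hfix : (g * w * g⁻¹) • x = x) : False := by
  have hT2 : IsPGroup 2 ↥(part S F ⊓ stabilizer G x) := S.isPGroup'.to_le (inf_le_left.trans inf_le_left)
  have hwx : w ∈ part S F ⊓ stabilizer G x :=
    ⟨kerPart_le_part S F hw, mem_stabilizer_iff.mpr (mem_kernel_iff.mp hw.2 x hx)⟩
  have hgx : g * w * g⁻¹ ∈ part S F ⊓ stabilizer G x :=
    ⟨(D.conj_mem_image hw).2, mem_stabilizer_iff.mpr hfix⟩
  have hg1 : g * w * g⁻¹ ≠ 1 := fun e => hw1 (conj_eq_one_iff.mp e)
  have hg2 : orderOf (g * w * g⁻¹) = 2 := order_two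
    (by rw [show g * w * g⁻¹ * (g * w * g⁻¹) = g * (w * w) * g⁻¹ by group, hsq w hw]; group) hg1
  exact hg1 (D.eq_one_of_both
    (D.kernel_fix_eq hT2 inf_le_right hwx hw (order_two (hsq w hw) hw1) hgx hg2) (D.conj_mem_image hw).1)

/-- The kernel has no fixed point on the translated four points. -/
theorem fpf_image {w : G} (hw : w ∈ kerPart S F) (hw1 : w ≠ 1) {x : Ω} (hx : x ∈ g • F)
    (hfix : w • x = x) : False := by
  obtain ⟨y, hy, rfl⟩ := hx
  obtain ⟨k, hk⟩ : ∃ k, k = g⁻¹ * w * g := ⟨_, rfl⟩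
  have hky : k • y = y := by
    rw [hk, mul_smul, mul_smul, hfix, inv_smul_smul]
  have hkR : k ∈ part S F := hk ▸ D.inv_conj_mem (kerPart_le_part S F hw)
  have hk1 : k ≠ 1 := fun e => hw1 (by
    rw [show w = g * k * g⁻¹ by rw [hk]; group, e]; group)
  have hk2 : orderOf k = 2 := order_two (by
    rw [hk, show g⁻¹ * w * g * (g⁻¹ * w * g) = g⁻¹ * (w * w) * g by group, hsq w hw]; group) hk1
  have hT2 : IsPGroup 2 ↥(part S F ⊓ stabilizer G y) := S.isPGroup'.to_le (inf_le_left.trans inf_le_left)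
  obtain ⟨v, hv, hv1⟩ := D.nontrivial
  have hkK : k ∈ fixingSubgroup G F := D.kernel_fix_eq hT2 inf_le_right
    ⟨kerPart_le_part S F hv, mem_stabilizer_iff.mpr (mem_kernel_iff.mp hv.2 y hy)⟩ hv
    (order_two (hsq v hv) hv1) ⟨hkR, mem_stabilizer_iff.mpr hky⟩ hk2
  refine hw1 (D.eq_one_of_both hw.2 ?_)
  rw [show w = g * k * g⁻¹ by rw [hk]; group]
  exact (D.conj_mem_image ⟨hkR.1, hkK⟩).1

include h4

/-- Every element preserving the four points is a product of the two kernels. -/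
theorem exists_product {r : G} (hr : r ∈ part S F) :
    ∃ w ∈ kerPart S F, ∃ x, x ∈ part S F ∧ x ∈ fixingSubgroup G (g • F) ∧ r = w * x := by
  classical
  obtain ⟨p, hp, hp1⟩ := D.nontrivial
  obtain ⟨q, hq, hq1, hpq⟩ : ∃ q ∈ kerPart S F, q ≠ 1 ∧ p ≠ q := by
    by_contra! hall
    have hsub : (kerPart S F : Set G) ⊆ {1, p} := fun q hq => by
      by_cases e : q = 1
      · exact Or.inl e
      · exact Or.inr (hall q hq e).symm
    have := (Set.ncard_le_ncard hsub (Set.toFinite _)).trans (Set.ncard_insert_le _ _)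
    rw [Set.ncard_singleton, ← Nat.card_coe_set_eq] at this
    exact absurd (h4.symm.trans_le this) (by norm_num)
  have hel := fun w hw => four_elements h4 hp hq hp1 hq1 hpq (hsq p hp) (w := w) hw
  have hF4 : Nat.card F = 4 := (Nat.card_coe_set_eq F).trans D.card
  let π : part S F →* Equiv.Perm ↥F := image inf_le_right
  let P : part S F := ⟨g * p * g⁻¹, (D.conj_mem_image hp).2⟩
  let Q : part S F := ⟨g * q * g⁻¹, (D.conj_mem_image hq).2⟩
  let R₀ : part S F := ⟨r, hr⟩
  have hPf : ∀ x, π P x ≠ x := fun x e => conj_fpf D hsq hp hp1 x.2 ((image_fix_iff _).mp e)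
  have hQf : ∀ x, π Q x ≠ x := fun x e => conj_fpf D hsq hq hq1 x.2 ((image_fix_iff _).mp e)
  have hPP : π P * π P = 1 := by
    rw [← map_mul, show P * P = 1 from Subtype.ext (show g * p * g⁻¹ * (g * p * g⁻¹) = 1 by
      rw [show g * p * g⁻¹ * (g * p * g⁻¹) = g * (p * p) * g⁻¹ by group, hsq p hp]; group), map_one]
  have hQQ : π Q * π Q = 1 := by
    rw [← map_mul, show Q * Q = 1 from Subtype.ext (show g * q * g⁻¹ * (g * q * g⁻¹) = 1 by
      rw [show g * q * g⁻¹ * (g * q * g⁻¹) = g * (q * q) * g⁻¹ by group, hsq q hq]; group), map_one]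
  have hPQ : π P ≠ π Q := by
    intro e
    replace e := (image_eq_iff _).mp e
    have h1 := D.eq_one_of_both e (mul_mem (inv_mem (D.conj_mem_image hp).1) (D.conj_mem_image hq).1)
    exact hpq (mul_left_cancel (mul_right_cancel (inv_mul_eq_one.mp h1)))
  have hmem : ∀ d : part S F, (∃ w ∈ kerPart S F, (d : G) = g * w * g⁻¹) → π R₀ = π d →
      ∃ w ∈ kerPart S F, ∃ x, x ∈ part S F ∧ x ∈ fixingSubgroup G (g • F) ∧ r = w * x := by
    rintro d ⟨w, hw, hwd⟩ e
    replace e := (image_eq_iff _).mp e.symm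
    rw [hwd] at e
    have hk : (g * w * g⁻¹)⁻¹ * r ∈ kerPart S F :=
      ⟨(S : Subgroup G).mul_mem ((S : Subgroup G).inv_mem (D.conj_mem_image hw).2.1) hr.1, e⟩
    refine ⟨_, hk, g * w * g⁻¹, (D.conj_mem_image hw).2, (D.conj_mem_image hw).1, ?_⟩
    rw [D.commute_image hk (D.conj_mem_image hw).2 (D.conj_mem_image hw).1]
    group
  have hcardR : Nat.card (part S F) ∣ 2 ^ 5 := by
    haveI : Fact (Nat.Prime 2) := ⟨Nat.prime_two⟩
    have h1 := card_eq_relIndex_mul (F := F) (part S F)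
    have h8 := relIndex_le_eight D.card (R := part S F) inf_le_right (S.isPGroup'.to_le inf_le_left)
    have hW : part S F ⊓ fixingSubgroup G F = kerPart S F := by
      rw [part, kerPart, inf_assoc, inf_eq_right.mpr (kernel_le_setStab F)]
    rw [hW, h4] at h1
    rw [← h1]
    rcases h8 with e | e | e | e <;> rw [e] <;> norm_num
  have hs4 : π R₀ * π R₀ * (π R₀ * π R₀) = 1 := by
    refine perm_four_pow_four hF4 ?_
    have hdvd : orderOf (π R₀) ∣ 2 ^ 5 := ((orderOf_map_dvd π R₀).trans (orderOf_dvd_natCard R₀)).trans hcardR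
    have hdvd' : orderOf (π R₀) ∣ 24 := by
      have h2 := orderOf_dvd_natCard (π R₀)
      rw [Nat.card_perm, hF4] at h2
      simpa [Nat.factorial] using h2
    exact orderOf_dvd_iff_pow_eq_one.mp ((Nat.dvd_gcd hdvd hdvd').trans (by norm_num))
  by_cases c1 : π R₀ = 1
  · exact hmem 1 ⟨1, one_mem _, by simp⟩ (c1.trans (map_one π).symm)
  by_cases c2 : π R₀ = π P
  · exact hmem P ⟨p, hp, rfl⟩ c2
  by_cases c3 : π R₀ = π Q
  · exact hmem Q ⟨q, hq, rfl⟩ c3
  by_cases c4 : π R₀ = π P * π Q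
  · refine hmem (P * Q) ⟨p * q, mul_mem hp hq, ?_⟩ (c4.trans (map_mul π P Q).symm)
    show g * p * g⁻¹ * (g * q * g⁻¹) = _
    group
  exfalso
  obtain ⟨v, hv, ⟨x, hx⟩, hv2, hv1, hvc⟩ := PermFour.outside_four hF4 hPP hPf hQQ hQf hPQ hs4 c1 c2 c3 c4
  obtain ⟨d, hd⟩ : ∃ d : part S F, v = π d := by
    rcases hv with e | e | e | e
    · exact ⟨1, e.trans (map_one π).symm⟩
    · exact ⟨P, e⟩
    · exact ⟨Q, e⟩
    · exact ⟨P * Q, e.trans (map_mul π P Q).symm⟩
  subst hd
  rw [← map_mul] at hx hv2 hv1 hvc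
  rw [← map_mul] at hv2
  replace hv2 := (image_eq_one_iff _).mp hv2
  obtain ⟨s, hs⟩ : ∃ s : part S F, s = R₀ * d := ⟨_, rfl⟩
  rw [← hs] at hx hv2 hv1 hvc
  have hsnK : (s : G) ∉ fixingSubgroup G F := fun h => hv1 ((image_eq_one_iff _).mpr h)
  set c : G := (s : G) * s with hc
  have hcW : c ∈ kerPart S F := ⟨(S : Subgroup G).mul_mem s.2.1 s.2.1, hv2⟩
  set T := part S F ⊓ stabilizer G (x : Ω) with hT
  have hT2 : IsPGroup 2 T := S.isPGroup'.to_le (inf_le_left.trans inf_le_left)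
  have hsT : (s : G) ∈ T := ⟨s.2, mem_stabilizer_iff.mpr ((image_fix_iff _).mp hx)⟩
  have hWT : ∀ w ∈ kerPart S F, w ∈ T := fun w hw =>
    ⟨kerPart_le_part S F hw, mem_stabilizer_iff.mpr (mem_kernel_iff.mp hw.2 x x.2)⟩
  have hc1 : c ≠ 1 := fun e => hsnK (D.kernel_fix_eq hT2 inf_le_right (hWT p hp) hp
    (order_two (hsq p hp) hp1) hsT (order_two e fun e' => hsnK (by rw [e']; exact one_mem _)))
  by_cases hcent : ∀ w ∈ kerPart S F, (s : G) * w = w * s
  · -- `s` acts as the conjugate kernel on the translated points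
    have hF4' : Nat.card ↥(g • F) = 4 := by rw [Nat.card_coe_set_eq, Set.ncard_smul_set, D.card]
    let ρ : part S F →* Equiv.Perm ↥(g • F) := image fun y hy => D.part_le_stab_image hy
    let P' : part S F := ⟨p, kerPart_le_part S F hp⟩
    let Q' : part S F := ⟨q, kerPart_le_part S F hq⟩
    have hne : ∀ w ∈ kerPart S F, w ≠ 1 → ∀ hw : w ∈ part S F, ρ ⟨w, hw⟩ ≠ 1 := fun w hw hw1 hw' e =>
      hw1 (D.eq_one_of_both hw.2 ((image_eq_one_iff _).mp e))
    have key := PermFour.cent_four hF4' (a := ρ P') (b := ρ Q') (c := ρ s)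
      (by rw [← map_mul, show P' * P' = 1 from Subtype.ext (hsq p hp), map_one]) (hne p hp hp1 _)
      (by rw [← map_mul, show Q' * Q' = 1 from Subtype.ext (hsq q hq), map_one]) (hne q hq hq1 _)
      (fun e => hpq (inv_mul_eq_one.mp (D.eq_one_of_both (mul_mem (inv_mem hp.2) hq.2)
        ((image_eq_iff _).mp e))))
      (by rw [← map_mul, ← map_mul]; exact congrArg ρ (Subtype.ext (Rank.comm_of_sq hsq hp hq)))
      (by rw [← map_mul, ← map_mul]; exact congrArg ρ (Subtype.ext (hcent p hp)))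
      (by rw [← map_mul, ← map_mul]; exact congrArg ρ (Subtype.ext (hcent q hq)))
    obtain ⟨e, heW, he⟩ : ∃ e : part S F, (e : G) ∈ kerPart S F ∧ ρ s = ρ e := by
      rcases key with e | e | e | e
      · exact ⟨1, one_mem _, e.trans (map_one ρ).symm⟩
      · exact ⟨P', hp, e⟩
      · exact ⟨Q', hq, e⟩
      · exact ⟨P' * Q', mul_mem hp hq, e.trans (map_mul ρ P' Q').symm⟩
    have hk : (e : G)⁻¹ * s ∈ fixingSubgroup G (g • F) := (image_eq_iff _).mp he.symm
    have hkR : (e : G)⁻¹ * s ∈ part S F := mul_mem (inv_mem e.2) s.2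
    set k := (e : G)⁻¹ * s with hkdef
    have hse : (s : G) = e * k := by rw [hkdef]; group
    have hkW := D.image_kernel hkR hk
    have hcomm : ∀ w ∈ kerPart S F, (s : G) * (g * w * g⁻¹) = g * w * g⁻¹ * s := by
      intro w hw
      have h1 : k * (g * w * g⁻¹) = g * w * g⁻¹ * k := by
        rw [show k = g * (g⁻¹ * k * g) * g⁻¹ by group,
          show g * (g⁻¹ * k * g) * g⁻¹ * (g * w * g⁻¹) = g * ((g⁻¹ * k * g) * w) * g⁻¹ by group,
          Rank.comm_of_sq hsq hkW hw]
        group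
      rw [hse, mul_assoc, h1, ← mul_assoc,
        D.commute_image heW (D.conj_mem_image hw).2 (D.conj_mem_image hw).1, mul_assoc]
    rcases hvc with h | h
    · exact h (by rw [← map_mul, ← map_mul]; exact congrArg π (Subtype.ext (hcomm p hp)))
    · exact h (by rw [← map_mul, ← map_mul]; exact congrArg π (Subtype.ext (hcomm q hq)))
  · push Not at hcent
    obtain ⟨w, hw, hsw⟩ := hcent
    have hsc : (s : G) * c * (s : G)⁻¹ = c := by rw [hc]; group
    have hw1 : w ≠ 1 := fun e => hsw (by rw [e]; simp)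
    have hwc : w ≠ c := fun e => hsw (by rw [e, hc, mul_assoc])
    have himg : (s : G) * w * (s : G)⁻¹ ∈ kerPart S F :=
      ⟨(S : Subgroup G).mul_mem ((S : Subgroup G).mul_mem s.2.1 hw.1) ((S : Subgroup G).inv_mem s.2.1),
        conj_mem_kernel s.2.2 hw.2⟩
    have he : (s : G) * w * (s : G)⁻¹ = c * w := by
      rcases four_elements h4 hcW hw hc1 hw1 (Ne.symm hwc) (hsq c hcW) himg with e | e | e | e
      · exact absurd (conj_eq_one_iff.mp e) hw1
      · exact absurd (mul_left_cancel (mul_right_cancel (e.trans hsc.symm))) hwc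
      · exact absurd (mul_inv_eq_iff_eq_mul.mp e) hsw
      · exact e
    have hsq1 : (s : G) * w * ((s : G) * w) = 1 := by
      rw [show (s : G) * w * ((s : G) * w) = ((s : G) * w * (s : G)⁻¹) * ((s : G) * s) * w by group, he, ← hc,
        mul_assoc c w c, Rank.comm_of_sq hsq hw hcW, ← mul_assoc, hsq c hcW, one_mul, hsq w hw]
    have hswK : (s : G) * w ∉ fixingSubgroup G F := fun h => hsnK (by
      have := mul_mem h (inv_mem hw.2)
      rwa [mul_inv_cancel_right] at this)
    exact hswK (D.kernel_fix_eq hT2 inf_le_right (hWT p hp) hp (order_two (hsq p hp) hp1)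
      (mul_mem hsT (hWT w hw)) (order_two hsq1 fun e => hswK (e ▸ one_mem _)))

/-- The stabiliser of the four points is elementary abelian. -/
theorem part_sq {r : G} (hr : r ∈ part S F) : r * r = 1 := by
  obtain ⟨w, hw, x, hxR, hxK, rfl⟩ := exists_product D h4 hsq hr
  have h1 := hsq _ (D.image_kernel hxR hxK)
  have hxx : x * x = 1 := by
    have : x * x = g * (g⁻¹ * x * g * (g⁻¹ * x * g)) * g⁻¹ := by group
    rw [this, h1]; group
  rw [show w * x * (w * x) = w * (x * w) * x by group, ← D.commute_image hw hxR hxK,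
    show w * (w * x) * x = (w * w) * (x * x) by group, hsq w hw, hxx, one_mul]

/-- Its order is sixteen. -/
theorem card_part : Nat.card (part S F) = 16 := by
  let f : kerPart S F × kerPart S F → part S F := fun u =>
    ⟨u.1 * (g * u.2 * g⁻¹), mul_mem (kerPart_le_part S F u.1.2) (D.conj_mem_image u.2.2).2⟩
  have hf : Function.Bijective f := by
    constructor
    · rintro ⟨a, b⟩ ⟨a', b'⟩ h
      have h' : (a : G) * (g * b * g⁻¹) = a' * (g * b' * g⁻¹) := congrArg Subtype.val h
      have he : (a' : G)⁻¹ * a = g * b' * g⁻¹ * (g * b * g⁻¹)⁻¹ := by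
        calc (a' : G)⁻¹ * a = (a' : G)⁻¹ * (a * (g * b * g⁻¹)) * (g * b * g⁻¹)⁻¹ := by group
          _ = _ := by rw [h']; group
      have h1 : (a' : G)⁻¹ * a = 1 := D.eq_one_of_both (mul_mem (inv_mem a'.2.2) a.2.2)
        (he ▸ mul_mem (D.conj_mem_image b'.2).1 (inv_mem (D.conj_mem_image b.2).1))
      have haa : a = a' := Subtype.ext (inv_mul_eq_one.mp h1).symm
      subst haa
      exact Prod.ext rfl (Subtype.ext (mul_left_cancel (mul_right_cancel (mul_left_cancel h'))))
    · rintro ⟨r, hr⟩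
      obtain ⟨w, hw, x, hxR, hxK, rfl⟩ := exists_product D h4 hsq hr
      exact ⟨(⟨w, hw⟩, ⟨_, D.image_kernel hxR hxK⟩), Subtype.ext
        (show w * (g * (g⁻¹ * x * g) * g⁻¹) = w * x by group)⟩
  rw [← Nat.card_congr (Equiv.ofBijective f hf), Nat.card_prod, h4]

end Ctx

end CfsgLib.Perm.FixityFour
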