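import Cfsg.Agent.Lib.Perm.FixityFour.Embedded.Meet
import Cfsg.Agent.Lib.Perm.FixityFour.Embedded.Disjoint

/-!
Fixity four, degree four modulo eight, all point-fixing involutions of the stabiliser of the
four-set in its kernel: a strongly embedded subgroup or sectional rank at most four.
-/

set_option autoImplicit false
set_option linter.style.haveILetI false

namespace CfsgLib.Perm.FixityFour

open MulAction Subgroup
open scoped Pointwise

/-- The embedded case. -/
theorem ModCtx.embedded {G Ω : Type*} [Group G] [Finite G] [IsSimpleGroup G] [MulAction G Ω]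
    [FaithfulSMul G Ω] [Finite Ω] (hna : ¬ IsMulCommutative G) {S : Sylow 2 G} {F : Set Ω}
    (D : ModCtx S F)
    (hinv : ∀ x ∈ (S : Subgroup G), orderOf x = 2 → (∃ a : Ω, x • a = a) →
      x ∈ fixingSubgroup G F) : Done G := by
  have E : EmbCtx S F := ⟨D, hinv⟩
  by_cases hall : ∀ x ∈ stabilizer G F, x * x ∈ fixingSubgroup G F
  · exact E.done_of_sq_all hna hall
  push Not at hall
  obtain ⟨c, hc, hcc⟩ := hall
  by_cases hmeet : ∃ g ∉ stabilizer G F, ∃ a ∈ F, a ∈ g • F
  · obtain ⟨g, hg, a, haF, hag⟩ := hmeet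
    exact E.done_of_meet hna hc hcc hg haF hag
  · exact E.done_of_disjoint hna hc hcc fun g hg a haF hag => hmeet ⟨g, hg, a, haF, hag⟩

end CfsgLib.Perm.FixityFour
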