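import Cfsg.Agent.Lib.Perm.FixityFour.ModCtx

/-!
Fixity four with degree four modulo eight: reduction to a Sylow subgroup acting regularly, modulo a
normal subgroup fixing them, on an orbit of length four.
-/

set_option autoImplicit false
set_option linter.style.haveILetI false

namespace CfsgLib.Perm.FixityFour

open MulAction Subgroup
open scoped Pointwise
open LocalEvenB.SelfCentralEight.Sections (Sec BoundBy)

set_option maxRecDepth 20000 in
theorem transposition_sign_fin : ∀ s : Equiv.Perm (Fin 4), s * s = 1 → s ≠ 1 → (∃ x, s x = x) →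
    Equiv.Perm.sign s = -1 := by
  decide +kernel

theorem transposition_sign {α : Type*} [Finite α] [Fintype α] [DecidableEq α] (h : Nat.card α = 4)
    {s : Equiv.Perm α} (hs : s * s = 1) (hs1 : s ≠ 1) {x : α} (hx : s x = x) : Equiv.Perm.sign s = -1 :=
  (PermFour.sign_iso h s).symm.trans (transposition_sign_fin _ (by rw [← map_mul, hs, map_one])
    (by simpa using hs1) ⟨_, (PermFour.iso_fix h s (Finite.equivFinOfCardEq h x)).mpr (by simpa using hx)⟩)

/-- The sign of a semiregular permutation of even order. -/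
theorem sign_semiregular {α : Type*} [Fintype α] [DecidableEq α] (σ : Equiv.Perm α) {m : ℕ} (hm : Even m)
    (hm0 : 0 < m) (h1 : σ ^ m = 1) (h2 : ∀ d, 0 < d → d < m → ∀ a, (σ ^ d) a ≠ a) :
    ∃ r, Fintype.card α = r * m ∧ Equiv.Perm.sign σ = (-1) ^ r := by
  have h1m : 1 < m := by rcases hm with ⟨j, rfl⟩; omega
  have hall : ∀ n ∈ σ.cycleType, n = m := by
    intro n hn
    have hdvd : n ∣ m := (Equiv.Perm.dvd_of_mem_cycleType hn).trans (orderOf_dvd_of_pow_eq_one h1)
    rw [Equiv.Perm.cycleType_def, Multiset.mem_map] at hn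
    obtain ⟨c, hcm, rfl⟩ := hn
    have hcy := (Equiv.Perm.mem_cycleFactorsFinset_iff.mp hcm).1
    obtain ⟨a, ha⟩ := Finset.card_pos.mp (by simpa using (hcy.two_le_card_support.trans_lt' two_pos))
    have hfix : (σ ^ c.support.card) a = a := by
      rw [← Equiv.Perm.cycleOf_pow_apply_self, ← Equiv.Perm.cycle_is_cycleOf ha hcm, ← hcy.orderOf,
        pow_orderOf_eq_one]
      rfl
    by_contra hne
    exact h2 _ (Finset.card_pos.mpr ⟨a, ha⟩) (lt_of_le_of_ne (Nat.le_of_dvd hm0 hdvd) hne) a hfix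
  have hsupp : σ.support = Finset.univ := by
    ext a
    simpa using h2 1 one_pos h1m a
  have hsum : σ.cycleType.sum = Fintype.card α := by
    rw [Equiv.Perm.sum_cycleType, hsupp, Finset.card_univ]
  rw [Multiset.eq_replicate_card.mpr hall, Multiset.sum_replicate, smul_eq_mul] at hsum
  refine ⟨Multiset.card σ.cycleType, hsum.symm, ?_⟩
  rw [Equiv.Perm.sign_of_cycleType, Equiv.Perm.sum_cycleType, hsupp, Finset.card_univ, ← hsum, pow_add,
    (hm.mul_left _).neg_one_pow, one_mul]

variable {G Ω : Type*} [Group G] [MulAction G Ω] [Finite G] [Finite Ω]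

omit [Finite G] in
/-- A Sylow subgroup has an orbit of length four when the degree is four modulo eight. -/
theorem exists_orbit_four [Finite G] [IsPretransitive G Ω] (hdeg : Nat.card Ω % 8 = 4) (S : Sylow 2 G) :
    ∃ a : Ω, (stabilizer G a).relIndex (S : Subgroup G) = 4 := by
  classical
  haveI : Fact (Nat.Prime 2) := ⟨Nat.prime_two⟩
  by_contra! hno
  have horb : ∀ a : Ω, 8 ∣ Nat.card (MulAction.orbit (S : Subgroup G) a) := by
    intro a
    have hst : stabilizer (S : Subgroup G) a = (stabilizer G a).subgroupOf (S : Subgroup G) := rfl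
    have hcard : Nat.card (MulAction.orbit (S : Subgroup G) a) = (stabilizer G a).relIndex (S : Subgroup G) := by
      rw [Subgroup.relIndex, ← hst, MulAction.index_stabilizer, Nat.card_coe_set_eq]
    rw [hcard]
    obtain ⟨k, hk⟩ := S.isPGroup'.index ((stabilizer G a).subgroupOf (S : Subgroup G))
    rw [Subgroup.relIndex, hk]
    rcases Nat.lt_or_ge k 3 with hk3 | hk3
    swap
    · exact (show 8 = 2 ^ 3 by norm_num) ▸ Nat.pow_dvd_pow 2 hk3
    exfalso
    refine hno a ?_
    rw [Subgroup.relIndex, hk]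
    have hk2 : k ≤ 2 := by omega
    -- a smaller index would make the degree odd or twice odd
    have h1 := Subgroup.relIndex_mul_index (inf_le_left : (S : Subgroup G) ⊓ stabilizer G a ≤ (S : Subgroup G))
    rw [inf_relIndex_left, Subgroup.relIndex, hk] at h1
    have h2 := Subgroup.index_dvd_of_le (inf_le_right : (S : Subgroup G) ⊓ stabilizer G a ≤ stabilizer G a)
    rw [← h1, MulAction.index_stabilizer_of_transitive] at h2
    have h4 : 4 ∣ 2 ^ k * (S : Subgroup G).index := dvd_trans (by omega) h2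
    have hodd : Nat.Coprime (2 ^ 2) (S : Subgroup G).index :=
      Nat.Coprime.pow_left 2 ((Nat.Prime.coprime_iff_not_dvd Nat.prime_two).mpr S.not_dvd_index)
    have h5 : 2 ^ 2 ∣ 2 ^ k := hodd.dvd_of_dvd_mul_right (by simpa using h4)
    have h6 : 2 ≤ k := (Nat.pow_dvd_pow_iff_le_right (by norm_num)).mp h5
    have : k = 2 := by omega
    rw [this]; norm_num
  haveI := Fintype.ofFinite (MulAction.orbitRel.Quotient (S : Subgroup G) Ω)
  have e := Nat.card_congr (MulAction.selfEquivSigmaOrbits (S : Subgroup G) Ω)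
  rw [Nat.card_sigma] at e
  have h8 : 8 ∣ Nat.card Ω := e ▸ Finset.dvd_sum fun q _ => horb q.out
  omega

/-- A 2-subgroup of a point stabiliser is conjugate into a Sylow subgroup of any other stabiliser. -/
theorem exists_conj_le [IsPretransitive G Ω] {a b : Ω} {T X : Subgroup G} (hX2 : IsPGroup 2 X) (hXb : X ≤ stabilizer G b)
    (hTa : T ≤ stabilizer G a) (hT2 : IsPGroup 2 T) (hodd : ¬ 2 ∣ T.relIndex (stabilizer G a)) :
    ∃ g : G, ∀ x ∈ X, g * x * g⁻¹ ∈ T := by
  haveI : Fact (Nat.Prime 2) := ⟨Nat.prime_two⟩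
  obtain ⟨h, hh⟩ := MulAction.exists_smul_eq G b a
  let A := stabilizer G a
  let X' : Subgroup A := (X.map (MulAut.conj h).toMonoidHom).subgroupOf A
  have hX' : IsPGroup 2 X' := (hX2.map _).comap_of_injective A.subtype A.subtype_injective
  let P : Sylow 2 A := (hT2.comap_of_injective A.subtype A.subtype_injective : IsPGroup 2 (T.subgroupOf A)).toSylow hodd
  obtain ⟨Q, hQ⟩ := hX'.exists_le_sylow
  obtain ⟨k, hk⟩ := MulAction.exists_smul_eq A Q P
  refine ⟨(k : G) * h, fun x hx => ?_⟩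
  have hxA : h * x * h⁻¹ ∈ A := mem_stabilizer_iff.mpr (by
    rw [mul_smul, mul_smul, ← hh, inv_smul_smul, mem_stabilizer_iff.mp (hXb hx)])
  have h1 : MulAut.conj k • (⟨h * x * h⁻¹, hxA⟩ : A) ∈ ((k • Q : Sylow 2 A) : Subgroup A) :=
    Subgroup.smul_mem_pointwise_smul _ _ _ (hQ (mem_subgroupOf.mpr ⟨x, hx, rfl⟩))
  rw [hk] at h1
  have h2 : (k : G) * (h * x * h⁻¹) * (k : G)⁻¹ ∈ T := h1
  rw [show (k : G) * h * x * ((k : G) * h)⁻¹ = (k : G) * (h * x * h⁻¹) * (k : G)⁻¹ by group]
  exact h2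

variable [IsSimpleGroup G] [FaithfulSMul G Ω]

/-- Degree four modulo eight: sectional rank at most four, or the regular configuration. -/
theorem four_mod (hna : ¬ IsMulCommutative G) (htr : IsPretransitive G Ω) (h : Four G Ω) (hU : Uniq G Ω)
    (hdeg : Nat.card Ω % 8 = 4) :
    (∃ S : Sylow 2 G, Cfsg.SectionalPRankLE 2 4 (S : Subgroup G)) ∨
      ∃ (S : Sylow 2 G) (F : Set Ω), ModCtx S F := by
  classical
  haveI := htr
  haveI : Fact (Nat.Prime 2) := ⟨Nat.prime_two⟩
  obtain ⟨S⟩ : Nonempty (Sylow 2 G) := inferInstance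
  obtain ⟨a, ha⟩ := exists_orbit_four hdeg S
  set F : Set Ω := MulAction.orbit (S : Subgroup G) a with hFdef
  have haF : a ∈ F := MulAction.mem_orbit_self a
  have hF : F.ncard = 4 := by
    rw [← ha, hFdef, Subgroup.relIndex, ← MulAction.index_stabilizer (G := (S : Subgroup G))]
    rfl
  have hle : (S : Subgroup G) ≤ stabilizer G F := by
    intro s hs
    rw [mem_stabilizer_iff]
    exact MulAction.smul_orbit (⟨s, hs⟩ : (S : Subgroup G)) a
  have horbit : ∀ x ∈ F, ∀ y ∈ F, ∃ s ∈ (S : Subgroup G), s • x = y := by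
    intro x hx y hy
    obtain ⟨s, rfl⟩ := hx
    obtain ⟨u, rfl⟩ := hy
    exact ⟨u * (s : G)⁻¹, (S : Subgroup G).mul_mem u.2 ((S : Subgroup G).inv_mem s.2),
      by show ((u : G) * (s : G)⁻¹) • ((s : G) • a) = (u : G) • a
         rw [mul_smul, inv_smul_smul]⟩
  set W := kerPart S F with hW
  have hWn : ∀ s ∈ (S : Subgroup G), ∀ w ∈ W, s * w * s⁻¹ ∈ W := fun s hs w hw =>
    ⟨(S : Subgroup G).mul_mem ((S : Subgroup G).mul_mem hs hw.1) ((S : Subgroup G).inv_mem hs),
      conj_mem_kernel (hle hs) hw.2⟩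
  haveI hWnormal : (W.subgroupOf (S : Subgroup G)).Normal :=
    ⟨fun w hw s => mem_subgroupOf.mpr (hWn s s.2 w (mem_subgroupOf.mp hw))⟩
  have hcardS := card_eq_relIndex_mul (F := F) (S : Subgroup G)
  have h8 := relIndex_le_eight hF hle S.isPGroup'
  by_cases hsmall : Nat.card W ≤ 4
  · exact Or.inl ⟨S, small_sylow S hF hle hsmall⟩
  have hW2 : IsPGroup 2 W := S.isPGroup'.to_le inf_le_left
  have h8W : 8 ≤ Nat.card W := by
    obtain ⟨k, hk⟩ := hW2.exists_card_eq
    rw [hk] at hsmall ⊢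
    have : 3 ≤ k := by
      by_contra hlt
      exact hsmall ((Nat.pow_le_pow_right (by norm_num) (show k ≤ 2 by omega)).trans_eq (by norm_num))
    exact (show (8 : ℕ) = 2 ^ 3 by norm_num) ▸ Nat.pow_le_pow_right (by norm_num) this
  obtain ⟨z, hzW, hz2, hzc⟩ := CfsgLib.TwoGroups.Classify.exists_central_involution
    (S.isPGroup' : IsPGroup 2 (S : Subgroup G)) (W.subgroupOf (S : Subgroup G)) (by
      intro e
      obtain ⟨w, hw, hw1⟩ := exists_ne_one_of_two_le (X := W) (by omega)
      have : (⟨w, hw.1⟩ : (S : Subgroup G)) ∈ (⊥ : Subgroup (S : Subgroup G)) := e ▸ mem_subgroupOf.mpr hw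
      exact hw1 (congrArg Subtype.val (Subgroup.mem_bot.mp this)))
  have hz2' : orderOf (z : G) = 2 := (orderOf_injective (S : Subgroup G).subtype Subtype.val_injective z).trans hz2
  have hzW' : (z : G) ∈ W := mem_subgroupOf.mp hzW
  set T := (S : Subgroup G) ⊓ stabilizer G a with hT
  have hT2 : IsPGroup 2 T := S.isPGroup'.to_le inf_le_left
  have hWT : W ≤ T := fun w hw => ⟨hw.1, mem_stabilizer_iff.mpr (mem_kernel_iff.mp hw.2 a haF)⟩
  have hTF : T ≤ stabilizer G F := inf_le_left.trans hle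
  have hTS : T.relIndex (S : Subgroup G) = 4 := by rw [hT, inf_relIndex_left, ha]
  have hidx2 : W.relIndex T ≤ 2 := by
    have := relIndex_le_two hF.le hTF hT2 haF inf_le_right
    rwa [← inf_relIndex_left T, show T ⊓ fixingSubgroup G F = W from
      le_antisymm (inf_le_inf_right _ inf_le_left) (le_inf hWT inf_le_right)] at this
  have hodd : ¬ 2 ∣ T.relIndex (stabilizer G a) := by
    intro hd
    have h1 := Subgroup.relIndex_mul_index (inf_le_left : T ≤ (S : Subgroup G))
    rw [hTS] at h1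
    have h2 := Subgroup.relIndex_mul_index (inf_le_right : T ≤ stabilizer G a)
    rw [MulAction.index_stabilizer_of_transitive, ← h1] at h2
    obtain ⟨c, hc⟩ := hd
    rw [hc] at h2
    have h4 : 4 ∣ Nat.card Ω := by omega
    obtain ⟨e, he⟩ := h4
    rw [he] at h2
    exact S.not_dvd_index ⟨c * e, by linarith⟩
  by_cases hTW : T ≤ W
  · refine Or.inr ⟨S, F, ⟨h, hU, htr, hdeg, hF, hle, horbit, ?_, h8W, ?_, ?_⟩⟩
    · show W.relIndex _ = 4
      rw [le_antisymm hWT hTW]; exact hTS
    · intro x hx s hs hsx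
      obtain ⟨u, hu, hua⟩ := horbit a haF x hx
      have : u⁻¹ * s * u ∈ T :=
        ⟨(S : Subgroup G).mul_mem ((S : Subgroup G).mul_mem ((S : Subgroup G).inv_mem hu) hs) hu,
          mem_stabilizer_iff.mpr (by rw [mul_smul, mul_smul, hua, hsx, ← hua, inv_smul_smul])⟩
      have h1 := hWn u hu _ (hTW this)
      rw [show u * (u⁻¹ * s * u) * u⁻¹ = s by group] at h1
      exact h1.2
    · intro X hX b hXb
      obtain ⟨g, hg⟩ := exists_conj_le hX hXb (inf_le_right : T ≤ stabilizer G a) hT2 hodd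
      exact ⟨g, fun x hx => hTW (hg x hx)⟩
  -- an element moving two of the four points
  left
  obtain ⟨y, hyT, hyW⟩ := SetLike.not_le_iff_exists.mp hTW
  have hWTi : W.relIndex T = 2 := by
    have h1 : W.relIndex T ≠ 1 := fun e => hyW (relIndex_eq_one.mp e hyT)
    have h0 : W.relIndex T ≠ 0 := index_ne_zero_of_finite
    omega
  have hyy : y * y ∈ W := Subgroup.mul_self_mem_of_index_two (H := W.subgroupOf T) hWTi ⟨y, hyT⟩
  have hyyne : y * y ≠ 1 := by
    intro e
    have h1 := hU T hT2 a inf_le_right z (hWT hzW') y hyT hz2'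
      (order_two e fun e' => hyW (e' ▸ one_mem W))
    rw [h.card_of_mem_kernel hF hzW'.2 (ne_one_of_order_two hz2')] at h1
    exact hyW ⟨hyT.1, mem_kernel_iff.mpr fun x hx => (h1 ▸ hx : x ∈ fixedBy Ω y)⟩
  have hy1 : y ≠ 1 := fun e => hyW (e ▸ one_mem W)
  obtain ⟨k, hk⟩ := IsPGroup.iff_orderOf.mp hT2 ⟨y, hyT⟩
  rw [Subgroup.orderOf_mk] at hk
  have hk1 : k ≠ 0 := fun e => hy1 (orderOf_eq_one_iff.mp (by rw [hk, e, pow_zero]))
  have hfree : ∀ d, 0 < d → d < 2 ^ k → ∀ x, x ∉ F → y ^ d • x ≠ x := by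
    intro d hd0 hd x hx hfix
    have hyd : y ^ d ≠ 1 := fun e => absurd (Nat.le_of_dvd hd0 (hk ▸ orderOf_dvd_of_pow_eq_one e)) (not_le.mpr hd)
    obtain ⟨e, he⟩ : ∃ e : ℕ, (y ^ d) ^ e ∈ W ∧ (y ^ d) ^ e ≠ 1 := by
      by_cases hsq : y ^ d ∈ W
      · exact ⟨1, by simpa using ⟨hsq, hyd⟩⟩
      · refine ⟨2, ?_, ?_⟩
        · rw [← pow_mul, mul_comm, pow_mul, pow_two]; exact pow_mem hyy d
        · intro e2
          have h1 := hU T hT2 a inf_le_right z (hWT hzW') (y ^ d) (pow_mem hyT d) hz2'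
            (order_two (by rw [← pow_two]; exact e2) hyd)
          rw [h.card_of_mem_kernel hF hzW'.2 (ne_one_of_order_two hz2')] at h1
          exact hsq ⟨(S : Subgroup G).pow_mem hyT.1 d, mem_kernel_iff.mpr fun x hx => (h1 ▸ hx : x ∈ fixedBy Ω (y ^ d))⟩
    exact he.2 (eq_one_of_extra h.fix hF hx (fixedBy_pow_subset (y ^ d) e hfix) (mem_kernel_iff.mp he.1.2))
  haveI := Fintype.ofFinite Ω
  set π := MulAction.toPermHom G Ω y with hπ
  have hπF : ∀ x, x ∈ F ↔ π x ∈ F := by
    intro x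
    have h1 := mem_stabilizer_iff.mp (hTF hyT)
    show x ∈ F ↔ y • x ∈ F
    constructor
    · intro hx; rw [← h1]; exact Set.smul_mem_smul_set hx
    · intro hx; rw [← h1] at hx; exact Set.smul_mem_smul_set_iff.mp hx
  have hdecomp : π = (π.subtypePerm (p := (· ∈ F)) fun x => (hπF x).symm).subtypeCongr
      (π.subtypePerm (p := (· ∉ F)) fun x => not_congr (hπF x).symm) := by
    ext x
    by_cases hx : x ∈ F <;> simp [hx]
  have hsignF : Equiv.Perm.sign (π.subtypePerm (p := (· ∈ F)) fun x => (hπF x).symm) = -1 := by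
    refine transposition_sign (x := ⟨a, haF⟩) ((Nat.card_coe_set_eq F).trans hF) ?_ ?_ ?_
    · refine Equiv.ext fun x => Subtype.ext ?_
      show y • (y • (x : Ω)) = x
      rw [← mul_smul]
      exact mem_kernel_iff.mp hyy.2 x x.2
    · intro e
      refine hyW ⟨hyT.1, mem_kernel_iff.mpr fun x hx => ?_⟩
      exact congrArg Subtype.val (DFunLike.congr_fun e ⟨x, hx⟩)
    · exact Subtype.ext (mem_stabilizer_iff.mp hyT.2)
  obtain ⟨r, hr, hsignC⟩ := sign_semiregular (π.subtypePerm (p := (· ∉ F)) fun x => not_congr (hπF x).symm)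
    (m := 2 ^ k) (Nat.even_pow.mpr ⟨even_two, hk1⟩) (Nat.two_pow_pos k)
    (by
      refine Equiv.ext fun x => Subtype.ext ?_
      rw [Equiv.Perm.subtypePerm_pow]
      show (π ^ 2 ^ k) (x : Ω) = x
      rw [hπ, ← map_pow, ← hk, pow_orderOf_eq_one, map_one]
      rfl)
    (fun d hd0 hd x e => by
      refine hfree d hd0 hd x x.2 ?_
      have e' := congrArg Subtype.val e
      rw [Equiv.Perm.subtypePerm_pow] at e'
      change (π ^ d) (x : Ω) = x at e'
      rw [hπ, ← map_pow] at e'
      exact e')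
  have hsign := sign_toPermHom (Ω := Ω) hna y
  rw [← hπ, hdecomp, Equiv.Perm.sign_subtypeCongr, hsignF, hsignC] at hsign
  have hrodd : Odd r := by
    rcases Nat.even_or_odd r with he | he
    · rw [he.neg_one_pow] at hsign
      exact absurd hsign (by decide)
    · exact he
  have hcompl : Nat.card Ω - 4 = r * 2 ^ k := by
    rw [← hr, Fintype.card_subtype_compl, ← Nat.card_eq_fintype_card, ← Nat.card_eq_fintype_card]
    rw [← hF, ← Nat.card_coe_set_eq]
  have hWk : Nat.card W ∣ 2 ^ k := by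
    have hd := h.card_kernel_dvd hF (W := W) inf_le_right
    rw [hcompl] at hd
    obtain ⟨j, hj⟩ := hW2.exists_card_eq
    rw [hj] at hd ⊢
    exact (Nat.Coprime.pow_left j (Nat.coprime_two_left.mpr hrodd)).dvd_of_dvd_mul_left hd
  -- `W` has a cyclic subgroup of index at most two
  have hcyc : BoundBy W 4 := by
    set C := (zpowers (y * y)).subgroupOf W with hC
    have hCc : Nat.card C * 2 = 2 ^ k := by
      rw [hC, Nat.card_congr (subgroupOfEquivOfLe (zpowers_le.mpr hyy)).toEquiv, Nat.card_zpowers, ← pow_two,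
        orderOf_pow' y (by norm_num : (2 : ℕ) ≠ 0), hk,
        Nat.gcd_eq_right (dvd_pow_self 2 hk1), Nat.div_mul_cancel (dvd_pow_self 2 hk1)]
    have hi : C.index ≤ 2 := by
      have h1 := C.card_mul_index
      have h2 := Nat.le_of_dvd (Nat.two_pow_pos k) hWk
      rw [← hCc] at h2
      rw [← h1] at h2
      exact Nat.le_of_mul_le_mul_left h2 Nat.card_pos
    haveI : C.Normal := by
      have h0 : C.index ≠ 0 := index_ne_zero_of_finite
      rcases (show C.index = 1 ∨ C.index = 2 by omega) with e | e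
      · rw [Subgroup.index_eq_one.mp e]; infer_instance
      · exact normal_of_index_eq_two e
    exact LocalEvenB.SelfCentralEight.Product.boundBy_cyclic_half
      (isCyclic_of_injective (Subgroup.subgroupOfEquivOfLe (zpowers_le.mpr hyy)).toMonoidHom
        (MulEquiv.injective _)) hi
  refine ⟨S, LocalEvenB.SelfCentralEight.Sections.sectional_of_boundBy (k := 4) ?_⟩
  have hq8 : (W.subgroupOf (S : Subgroup G)).index = 2 ^ 3 := by
    have h1 := relIndex_mul_relIndex W T (S : Subgroup G) hWT inf_le_left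
    rw [hWTi, hTS] at h1
    exact h1.symm
  refine Rank.boundBy_of_normal (W.subgroupOf (S : Subgroup G)) (a := 4) (b := 4)
    (Rank.boundBy_of_injective (subgroupOfEquivOfLe inf_le_left).toMonoidHom (MulEquiv.injective _) hcyc) ?_
  refine Rank.boundBy_half (k := 2) hq8 ?_
  by_contra! hall
  have hsq : ∀ b ∈ (image hle).range, b * b = 1 := by
    rintro _ ⟨s, rfl⟩
    have h1 : s * s ∈ W.subgroupOf (S : Subgroup G) := (QuotientGroup.eq_one_iff _).mp (hall (QuotientGroup.mk s))
    rw [← map_mul, image_eq_one_iff]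
    exact (mem_subgroupOf.mp h1).2
  have h4 := perm_elementary_le ((Nat.card_coe_set_eq F).trans hF) _ hsq
  have hker : (image hle).ker = W.subgroupOf (S : Subgroup G) := by
    ext s
    rw [MonoidHom.mem_ker, image_eq_one_iff, mem_subgroupOf]
    exact ⟨fun hs => ⟨s.2, hs⟩, fun hs => hs.2⟩
  rw [← Subgroup.index_ker, hker, hq8] at h4
  norm_num at h4

end CfsgLib.Perm.FixityFour
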