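import Cfsg.Agent.Lib.Perm.FixityFour.EightDvd
import Cfsg.Agent.Lib.Perm.FixityFour.FourMod
import Cfsg.Agent.Lib.Perm.FixityFour.Outside.Main

/-!
Fixity four with involutions fixing four points.
-/

set_option autoImplicit false
set_option linter.style.haveILetI false

namespace CfsgLib.Perm.FixityFour

open MulAction Subgroup
open scoped Pointwise

variable {G Ω : Type*} [Group G] [Finite G] [IsSimpleGroup G] [MulAction G Ω] [Finite Ω]

/-- The moved points of an involution come in an even number of pairs. -/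
theorem four_dvd_sub (hna : ¬ IsMulCommutative G) {u : G} (hu : orderOf u = 2) :
    4 ∣ Nat.card Ω - (fixedBy Ω u).ncard := by
  classical
  haveI := Fintype.ofFinite Ω
  set π := MulAction.toPermHom G Ω u with hπ
  have hmem : ∀ x, x ∈ fixedBy Ω u ↔ π x ∈ fixedBy Ω u := by
    intro x
    show u • x = x ↔ u • (u • x) = u • x
    exact ⟨fun e => by rw [e, e], fun e => MulAction.injective u e⟩
  have hdecomp : π = (π.subtypePerm (p := (· ∈ fixedBy Ω u)) fun x => (hmem x).symm).subtypeCongr
      (π.subtypePerm (p := (· ∉ fixedBy Ω u)) fun x => not_congr (hmem x).symm) := by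
    ext x
    by_cases hx : x ∈ fixedBy Ω u <;> simp [hx]
  have hsignF : Equiv.Perm.sign (π.subtypePerm (p := (· ∈ fixedBy Ω u)) fun x => (hmem x).symm) = 1 := by
    have : (π.subtypePerm (p := (· ∈ fixedBy Ω u)) fun x => (hmem x).symm) = 1 :=
      Equiv.ext fun x => Subtype.ext x.2
    rw [this, map_one]
  obtain ⟨r, hr, hsignC⟩ := sign_semiregular
    (π.subtypePerm (p := (· ∉ fixedBy Ω u)) fun x => not_congr (hmem x).symm)
    (m := 2) even_two two_pos
    (Equiv.ext fun x => Subtype.ext (by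
      rw [Equiv.Perm.subtypePerm_pow]
      show (π ^ 2) (x : Ω) = x
      rw [hπ, ← map_pow, ← hu, pow_orderOf_eq_one, map_one]
      rfl))
    (fun d hd0 hd x e => by
      obtain rfl : d = 1 := by omega
      rw [pow_one] at e
      exact x.2 (congrArg Subtype.val e))
  have hsign := sign_toPermHom (Ω := Ω) hna u
  rw [← hπ, hdecomp, Equiv.Perm.sign_subtypeCongr, hsignF, hsignC, one_mul] at hsign
  have hreven : Even r := by
    rcases Nat.even_or_odd r with he | he
    · exact he
    · rw [he.neg_one_pow] at hsign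
      exact absurd hsign (by decide)
  have hcompl : Nat.card Ω - (fixedBy Ω u).ncard = r * 2 := by
    rw [← hr, Fintype.card_subtype_compl, ← Nat.card_eq_fintype_card, ← Nat.card_eq_fintype_card,
      ← Nat.card_coe_set_eq]
  obtain ⟨j, rfl⟩ := hreven
  exact ⟨j, by omega⟩

/-- Involutions fixing four points. -/
theorem four_fix [FaithfulSMul G Ω] (hna : ¬ IsMulCommutative G) (htr : IsPretransitive G Ω) (hfix : Fix4 G Ω)
    {t : G} (ht : orderOf t = 2) (htf : Nat.card (fixedBy Ω t) = 4)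
    (hemb : ∀ (S : Sylow 2 G) (F : Set Ω), ModCtx S F →
      (∀ x ∈ (S : Subgroup G), orderOf x = 2 → (∃ a : Ω, x • a = a) → x ∈ fixingSubgroup G F) → Done G) :
    (∃ H : Subgroup G, Cfsg.IsStronglyEmbedded H) ∨ Cfsg.SectionalPRankLE 2 4 G := by
  classical
  have hT : (fixedBy Ω t).ncard = 4 := (Nat.card_coe_set_eq _).symm.trans htf
  have hn4 : 4 ≤ Nat.card Ω := by
    rw [← hT, ← Set.ncard_univ]
    exact Set.ncard_le_ncard (Set.subset_univ _) (Set.toFinite _)
  have hdeg : Nat.card Ω % 4 = 0 := by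
    have := four_dvd_sub (Ω := Ω) hna ht
    rw [hT] at this
    omega
  have hinv : ∀ u : G, orderOf u = 2 → ∀ a : Ω, u • a = a → (fixedBy Ω u).ncard = 4 := by
    intro u hu a ha
    have h1 := four_dvd_sub (Ω := Ω) hna hu
    have h2 : (fixedBy Ω u).ncard ≤ 4 :=
      (Nat.card_coe_set_eq _).symm.trans_le (hfix u (ne_one_of_order_two hu))
    have h3 : 0 < (fixedBy Ω u).ncard := (Set.ncard_pos (Set.toFinite _)).mpr ⟨a, ha⟩
    omega
  have h : Four G Ω := ⟨hfix, hinv⟩
  obtain ⟨a, ha⟩ := Set.nonempty_of_ncard_ne_zero (s := fixedBy Ω t) (by rw [hT]; norm_num)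
  have finish : Done G → (∃ H : Subgroup G, Cfsg.IsStronglyEmbedded H) ∨ Cfsg.SectionalPRankLE 2 4 G := by
    rintro (hse | ⟨S, hS⟩)
    · exact Or.inl hse
    · exact Or.inr (Rank.sectional_of_sylow S hS)
  rcases prop_u h with hd | hU
  · exact finish hd
  rcases (show Nat.card Ω % 8 = 0 ∨ Nat.card Ω % 8 = 4 by omega) with h0 | h4
  · exact finish (Or.inr (eight_dvd h hU h0 ht ha))
  rcases four_mod hna htr h hU h4 with hd | ⟨S, F, D⟩
  · exact finish (Or.inr hd)
  by_cases hx : ∀ x ∈ (S : Subgroup G), orderOf x = 2 → (∃ a : Ω, x • a = a) → x ∈ fixingSubgroup G F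
  · exact finish (hemb S F D hx)
  · push Not at hx
    obtain ⟨x, hxS, hx2, hxa, hxK⟩ := hx
    exact finish (Or.inr ⟨S, D.outside ⟨hxS, hx2, hxa, hxK⟩⟩)

end CfsgLib.Perm.FixityFour
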