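import Mathlib

/-!
Facts on permutations of four points, checked on `Fin 4` and transported to any type with four points.
-/

set_option autoImplicit false
set_option synthInstance.maxSize 2000
set_option synthInstance.maxHeartbeats 200000

namespace CfsgLib.Perm.FixityFour.PermFour

open Equiv

set_option maxRecDepth 20000 in
set_option maxHeartbeats 4000000 in
theorem cent_four_fin : ∀ a : Perm (Fin 4), a * a = 1 → a ≠ 1 → ∀ b : Perm (Fin 4), b * b = 1 → b ≠ 1 →
    a ≠ b → a * b = b * a → ∀ c : Perm (Fin 4), c * a = a * c → c * b = b * c →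
      c = 1 ∨ c = a ∨ c = b ∨ c = a * b := by
  decide +kernel

set_option maxRecDepth 20000 in
set_option maxHeartbeats 4000000 in
theorem cent_cycle_fin : ∀ v : Perm (Fin 4), v * v ≠ 1 → v * v * (v * v) = 1 → ∀ c : Perm (Fin 4),
    c * v = v * c → c = 1 ∨ c = v ∨ c = v * v ∨ c = v * (v * v) := by
  decide +kernel

set_option maxRecDepth 20000 in
set_option maxHeartbeats 4000000 in
theorem outside_four_fin : ∀ a : Perm (Fin 4), a * a = 1 → (∀ x, a x ≠ x) → ∀ b : Perm (Fin 4), b * b = 1 →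
    (∀ x, b x ≠ x) → a ≠ b → ∀ s : Perm (Fin 4), s * s * (s * s) = 1 → s ≠ 1 → s ≠ a → s ≠ b → s ≠ a * b →
      ∃ v : Perm (Fin 4), (v = 1 ∨ v = a ∨ v = b ∨ v = a * b) ∧ (∃ x, (s * v) x = x) ∧
        s * v * (s * v) = 1 ∧ s * v ≠ 1 ∧ (s * v * a ≠ a * (s * v) ∨ s * v * b ≠ b * (s * v)) := by
  decide +kernel

set_option maxRecDepth 20000 in
theorem fpf_involution_fin : ∀ a : Perm (Fin 4), a * a = 1 → (∀ x, a x ≠ x) → Perm.sign a = 1 := by
  decide +kernel

set_option maxRecDepth 20000 in
theorem cycle_sign_fin : ∀ v : Perm (Fin 4), v * v ≠ 1 → v * v * (v * v) = 1 → Perm.sign v = -1 := by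
  decide +kernel

set_option maxRecDepth 20000 in
theorem even_cent_fin : ∀ a : Perm (Fin 4), a * a = 1 → a ≠ 1 → Perm.sign a = 1 → ∀ s : Perm (Fin 4),
    Perm.sign s = 1 → s * a = a * s → s * s = 1 := by
  decide +kernel

/-- The three pairings of four points, numbered by the partner of the last point. -/
def pairing (s : Perm (Fin 4)) : ZMod 3 :=
  if s 3 = 3 then ((s 0).val : ZMod 3) else if s 0 = 3 then ((s 3).val : ZMod 3)
    else ((6 - (s 3).val - (s 0).val - 3 : ℕ) : ZMod 3)

set_option maxRecDepth 20000 in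
theorem pairing_mul_fin : ∀ s t : Perm (Fin 4), Perm.sign s = 1 → Perm.sign t = 1 →
    pairing (s * t) = pairing s + pairing t := by
  decide +kernel

set_option maxRecDepth 20000 in
theorem pairing_zero_fin : ∀ s : Perm (Fin 4), Perm.sign s = 1 → (pairing s = 0 ↔ s * s = 1) := by
  decide +kernel

set_option maxRecDepth 20000 in
theorem pairing_fix_fin : ∀ s : Perm (Fin 4), Perm.sign s = 1 → pairing s ≠ 0 →
    ∃ x, s x = x ∧ ∀ y, s y = y → y = x := by
  decide +kernel

set_option maxRecDepth 20000 in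
theorem conj_product_fin : ∀ a : Perm (Fin 4), a * a = 1 → a ≠ 1 → Perm.sign a = 1 → ∀ s : Perm (Fin 4),
    Perm.sign s = 1 → s * s ≠ 1 → a * (s * a * s⁻¹) = s * s * a * (s * s)⁻¹ := by
  decide +kernel

variable {α : Type*}

/-- Transport to `Fin 4`. -/
noncomputable def iso [Finite α] (h : Nat.card α = 4) : Perm α ≃* Perm (Fin 4) :=
  (Finite.equivFinOfCardEq h).permCongrHom

theorem iso_fix [Finite α] (h : Nat.card α = 4) (s : Perm α) (x : Fin 4) :
    iso h s x = x ↔ s ((Finite.equivFinOfCardEq h).symm x) = (Finite.equivFinOfCardEq h).symm x := by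
  simp [iso, Equiv.permCongrHom, Equiv.permCongr_apply, Equiv.eq_symm_apply]

theorem iso_fpf [Finite α] (h : Nat.card α = 4) {s : Perm α} (hs : ∀ x, s x ≠ x) (x : Fin 4) :
    iso h s x ≠ x := fun e => hs _ ((iso_fix h s x).mp e)

theorem sign_iso [Finite α] [Fintype α] [DecidableEq α] (h : Nat.card α = 4) (s : Perm α) :
    Perm.sign (iso h s) = Perm.sign s := by
  simp [iso, Equiv.permCongrHom]

variable [Finite α] (h : Nat.card α = 4)

include h

theorem cent_four {a b c : Perm α} (ha : a * a = 1) (ha1 : a ≠ 1) (hb : b * b = 1) (hb1 : b ≠ 1)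
    (hab : a ≠ b) (hc : a * b = b * a) (hca : c * a = a * c) (hcb : c * b = b * c) :
    c = 1 ∨ c = a ∨ c = b ∨ c = a * b := by
  have key := cent_four_fin (iso h a) (by rw [← map_mul, ha, map_one]) (by simpa using ha1)
    (iso h b) (by rw [← map_mul, hb, map_one]) (by simpa using hb1) (by simpa using hab)
    (by rw [← map_mul, hc, map_mul]) (iso h c) (by rw [← map_mul, hca, map_mul])
    (by rw [← map_mul, hcb, map_mul])
  simpa only [← map_mul, ← map_one (iso h), EmbeddingLike.apply_eq_iff_eq] using key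

theorem cent_cycle {v c : Perm α} (hv : v * v ≠ 1) (hv4 : v * v * (v * v) = 1) (hc : c * v = v * c) :
    c = 1 ∨ c = v ∨ c = v * v ∨ c = v * (v * v) := by
  have key := cent_cycle_fin (iso h v) (fun e => hv ((iso h).injective (by rw [map_mul, map_one]; exact e)))
    (by rw [← map_mul, ← map_mul, hv4, map_one]) (iso h c) (by rw [← map_mul, hc, map_mul])
  simpa only [← map_mul, ← map_one (iso h), EmbeddingLike.apply_eq_iff_eq] using key

theorem outside_four {a b s : Perm α} (ha : a * a = 1) (haf : ∀ x, a x ≠ x) (hb : b * b = 1)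
    (hbf : ∀ x, b x ≠ x) (hab : a ≠ b) (hs : s * s * (s * s) = 1) (h1 : s ≠ 1) (h2 : s ≠ a) (h3 : s ≠ b)
    (h4 : s ≠ a * b) :
    ∃ v : Perm α, (v = 1 ∨ v = a ∨ v = b ∨ v = a * b) ∧ (∃ x, (s * v) x = x) ∧
      s * v * (s * v) = 1 ∧ s * v ≠ 1 ∧ (s * v * a ≠ a * (s * v) ∨ s * v * b ≠ b * (s * v)) := by
  obtain ⟨v, hv, ⟨x, hx⟩, hv2, hv1, hvc⟩ := outside_four_fin (iso h a) (by rw [← map_mul, ha, map_one])
    (iso_fpf h haf) (iso h b) (by rw [← map_mul, hb, map_one]) (iso_fpf h hbf) (by simpa using hab)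
    (iso h s) (by rw [← map_mul, ← map_mul, hs, map_one]) (by simpa using h1) (by simpa using h2)
    (by simpa using h3) (fun e => h4 ((iso h).injective (by rw [map_mul]; exact e)))
  obtain ⟨v, rfl⟩ := (iso h).surjective v
  simp only [← map_mul, ← map_one (iso h), EmbeddingLike.apply_eq_iff_eq, ne_eq] at hv hv2 hv1 hvc
  exact ⟨v, hv, ⟨_, (iso_fix h _ x).mp (by rw [map_mul]; exact hx)⟩, hv2, hv1, hvc⟩

variable [Fintype α] [DecidableEq α]

theorem fpf_involution {a : Perm α} (ha : a * a = 1) (haf : ∀ x, a x ≠ x) : Perm.sign a = 1 :=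
  (sign_iso h a).symm.trans (fpf_involution_fin (iso h a) (by rw [← map_mul, ha, map_one]) (iso_fpf h haf))

theorem cycle_sign {v : Perm α} (hv : v * v ≠ 1) (hv4 : v * v * (v * v) = 1) : Perm.sign v = -1 :=
  (sign_iso h v).symm.trans (cycle_sign_fin (iso h v) (fun e => hv ((iso h).injective (by rw [map_mul, map_one]; exact e)))
    (by rw [← map_mul, ← map_mul, hv4, map_one]))

theorem even_cent {a s : Perm α} (ha : a * a = 1) (ha1 : a ≠ 1) (hsa : Perm.sign a = 1)
    (hss : Perm.sign s = 1) (hc : s * a = a * s) : s * s = 1 := by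
  have key := even_cent_fin (iso h a) (by rw [← map_mul, ha, map_one]) (by simpa using ha1)
    (by rw [sign_iso h, hsa]) (iso h s) (by rw [sign_iso h, hss]) (by rw [← map_mul, hc, map_mul])
  simpa only [← map_mul, ← map_one (iso h), EmbeddingLike.apply_eq_iff_eq] using key

theorem conj_product {a s : Perm α} (ha : a * a = 1) (ha1 : a ≠ 1) (hsa : Perm.sign a = 1)
    (hss : Perm.sign s = 1) (hs2 : s * s ≠ 1) : a * (s * a * s⁻¹) = s * s * a * (s * s)⁻¹ := by
  have key := conj_product_fin (iso h a) (by rw [← map_mul, ha, map_one]) (by simpa using ha1)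
    (by rw [sign_iso h, hsa]) (iso h s) (by rw [sign_iso h, hss]) (fun e => hs2 ((iso h).injective (by rw [map_mul, map_one]; exact e)))
  simpa only [← map_inv, ← map_mul, EmbeddingLike.apply_eq_iff_eq] using key

/-- The map of an even permutation of four points to its action on the three pairings. -/
theorem exists_pairing_hom :
    ∃ l : (Perm.sign (α := α)).ker →* Multiplicative (ZMod 3),
      (∀ s, l s = 1 ↔ (s : Perm α) * s = 1) ∧
      ∀ s, l s ≠ 1 → ∃ x, (s : Perm α) x = x ∧ ∀ y, (s : Perm α) y = y → y = x := by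
  have hev : ∀ s : (Perm.sign (α := α)).ker, Perm.sign (iso h (s : Perm α)) = 1 := fun s => by
    rw [sign_iso h]; exact s.2
  refine ⟨MonoidHom.mk' (fun s => Multiplicative.ofAdd (pairing (iso h (s : Perm α))))
    (fun s t => ?_), fun s => ?_, fun s hs => ?_⟩
  · rw [← ofAdd_add, ← pairing_mul_fin _ _ (hev s) (hev t)]
    simp
  · simp only [MonoidHom.mk'_apply, ofAdd_eq_one]
    rw [pairing_zero_fin _ (hev s), ← map_mul, EmbeddingLike.map_eq_one_iff]
  · obtain ⟨x, hx, hu⟩ := pairing_fix_fin _ (hev s) (by simpa using hs)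
    refine ⟨_, (iso_fix h _ x).mp hx, fun y hy => ?_⟩
    have h1 := hu ((Finite.equivFinOfCardEq h) y) ((iso_fix h _ _).mpr (by simpa using hy))
    rw [← h1, Equiv.symm_apply_apply]

end CfsgLib.Perm.FixityFour.PermFour
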