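import Cfsg.Agent.Lib.LocalEvenB.SelfCentralEight.Main
import Cfsg.Agent.Lib.LocalEvenB.SelfCentralEight.Product
import Cfsg.Agent.S0501
import Mathlib

/-!
Criteria for a 2-group, or a group, to have sectional 2-rank at most four.
-/

set_option autoImplicit false
set_option linter.style.haveILetI false

namespace CfsgLib.Perm.FixityFour.Rank

open Subgroup
open CfsgLib.LocalEvenB.SelfCentralEight.Sections

variable {G : Type*} [Group G] [Finite G]

theorem boundBy_of_card_le {n : ℕ} (h : Nat.card G ≤ n) : BoundBy G n := fun K _ hKN =>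
  (relIndex_le_card hKN.1).trans ((card_le_card_group K).trans h)

theorem boundBy_mono {n m : ℕ} (h : BoundBy G n) (hnm : n ≤ m) : BoundBy G m := fun K N hKN =>
  (h K N hKN).trans hnm

theorem boundBy_of_injective {H : Type*} [Group H] {n : ℕ} (f : G →* H) (hf : Function.Injective f)
    (h : BoundBy H n) : BoundBy G n := fun K N hKN => by
  rw [← relIndex_map_map_of_injective N K hf]
  exact h _ _ (hKN.map f)

theorem boundBy_subgroupOf {A B : Subgroup G} (hAB : A ≤ B) {n : ℕ} (h : BoundBy B n) : BoundBy A n :=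
  boundBy_of_injective (Subgroup.inclusion hAB) (Subgroup.inclusion_injective hAB) h

theorem boundBy_of_normal (W : Subgroup G) [W.Normal] {a b : ℕ} (hW : BoundBy W a)
    (hQ : BoundBy (G ⧸ W) b) : BoundBy G (a * b) := by
  intro K N h
  rw [relIndex_split (QuotientGroup.mk' W) h.1, QuotientGroup.ker_mk']
  refine Nat.mul_le_mul ?_ (hQ _ _ (h.map _))
  have hsec : Sec ((K ⊓ W).subgroupOf W) ((N ⊓ W).subgroupOf W) :=
    ⟨Subgroup.comap_mono (h.inf W).1, fun k hk => (h.inf W).2 _ hk⟩
  have := hW _ _ hsec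
  rwa [relIndex_subgroupOf inf_le_right] at this

/-- A group of order `2 ^ (k + 1)` with an element whose square is not trivial. -/
theorem boundBy_half {k : ℕ} (hG : Nat.card G = 2 ^ (k + 1)) (hsq : ∃ x : G, x * x ≠ 1) :
    BoundBy G (2 ^ k) := by
  intro K N h
  obtain ⟨x, hx⟩ := hsq
  have hK2 : IsPGroup 2 G := IsPGroup.of_card hG
  obtain ⟨n, hn⟩ := exists_pow_relIndex hK2 N K
  have hle := (relIndex_le_card h.1).trans (card_le_card_group K)
  rw [hn, hG] at hle
  have hnk := (Nat.pow_le_pow_iff_right (by norm_num)).mp hle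
  rw [hn]
  refine Nat.pow_le_pow_right (by norm_num) ?_
  by_contra hlt
  have hnk' : n = k + 1 := by omega
  have hKG : Nat.card K = Nat.card G := by
    refine le_antisymm (card_le_card_group K) ?_
    rw [hG, ← hnk', ← hn]
    exact relIndex_le_card h.1
  have hN : N = ⊥ := eq_bot_of_relIndex_eq h.1 (by rw [hn, hKG, hG, hnk'])
  have hKtop : K = ⊤ := Subgroup.eq_top_of_card_eq K hKG
  refine hx ?_
  have := h.2 x (hKtop ▸ Subgroup.mem_top x)
  rwa [hN, Subgroup.mem_bot] at this

theorem boundBy_of_sectional {k : ℕ} (h : Cfsg.SectionalPRankLE 2 k G) : BoundBy G (2 ^ k) := by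
  intro K N hKN
  haveI : (N.subgroupOf K).Normal := ⟨fun y hy g => hKN.conj_mem g.2 hy⟩
  have hsq : ∀ q : K ⧸ N.subgroupOf K, q * q = 1 := fun q => by
    obtain ⟨g, rfl⟩ := QuotientGroup.mk'_surjective _ q
    rw [← map_mul, QuotientGroup.mk'_apply, QuotientGroup.eq_one_iff]
    exact hKN.2 g g.2
  have hcomm : ∀ a b : K ⧸ N.subgroupOf K, a * b = b * a := fun a b => by
    have h1 := hsq (a * b)
    calc a * b = (a * b)⁻¹ := mul_eq_one_iff_eq_inv.mp h1
      _ = b⁻¹ * a⁻¹ := mul_inv_rev a b
      _ = b * a := by rw [← mul_eq_one_iff_eq_inv.mp (hsq a), ← mul_eq_one_iff_eq_inv.mp (hsq b)]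
  have h1 := h K (N.subgroupOf K) ⊤ ⟨⟨fun a b => Subtype.ext (hcomm a b)⟩⟩
    (fun a _ => by rw [pow_two]; exact hsq a)
  rwa [Subgroup.card_top] at h1

/-- The sectional rank is read off from a Sylow subgroup. -/
theorem sectional_of_sylow (S : Sylow 2 G) (h : Cfsg.SectionalPRankLE 2 4 (S : Subgroup G)) :
    Cfsg.SectionalPRankLE 2 4 G :=
  CfsgLib.LocalEvenB.SelfCentralEight.Product.boundBy_of_sylow S (boundBy_of_sectional h)

omit [Finite G] in
theorem comm_of_sq {A : Subgroup G} (hA : ∀ a ∈ A, a * a = 1) {x y : G} (hx : x ∈ A) (hy : y ∈ A) :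
    x * y = y * x := by
  calc x * y = (x * y)⁻¹ := mul_eq_one_iff_eq_inv.mp (hA _ (mul_mem hx hy))
    _ = y⁻¹ * x⁻¹ := mul_inv_rev x y
    _ = y * x := by rw [← mul_eq_one_iff_eq_inv.mp (hA x hx), ← mul_eq_one_iff_eq_inv.mp (hA y hy)]

/-- An elementary subgroup of order at least eight contains one of order eight at any of its elements. -/
theorem exists_eight {E : Subgroup G} (hE : ∀ e ∈ E, e * e = 1) (h8 : 8 ≤ Nat.card E) {t : G}
    (ht : t ∈ E) : ∃ A : Subgroup G, t ∈ A ∧ A ≤ E ∧ Nat.card A = 8 := by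
  haveI : Fact (Nat.Prime 2) := ⟨Nat.prime_two⟩
  have hE2 : IsPGroup 2 E := fun e =>
    ⟨1, Subtype.ext (by rw [pow_one, Subgroup.coe_pow, pow_two]; exact hE e e.2)⟩
  obtain ⟨n, hn⟩ := hE2.exists_card_eq
  have hn3 : 3 ≤ n := by
    by_contra hlt
    have : 2 ^ n ≤ 2 ^ 2 := Nat.pow_le_pow_right (by norm_num) (by omega)
    omega
  obtain ⟨j, hj3, hj⟩ : ∃ j, j ≤ 3 ∧ Nat.card (zpowers (⟨t, ht⟩ : E)) = 2 ^ j := by
    obtain ⟨j, hj⟩ := (hE2.to_subgroup (zpowers (⟨t, ht⟩ : E))).exists_card_eq
    refine ⟨j, ?_, hj⟩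
    by_contra hlt
    rw [Nat.card_zpowers, Subgroup.orderOf_mk] at hj
    have hd : orderOf t ∣ 2 := orderOf_dvd_of_pow_eq_one (by rw [pow_two]; exact hE t ht)
    have := Nat.le_of_dvd (by norm_num) hd
    have h16 : 2 ^ 4 ≤ 2 ^ j := Nat.pow_le_pow_right (by norm_num) (by omega)
    omega
  obtain ⟨A, hA, hAle⟩ := Sylow.exists_subgroup_card_pow_prime_le 2
    (show 2 ^ 3 ∣ Nat.card E from hn ▸ Nat.pow_dvd_pow 2 hn3) (zpowers (⟨t, ht⟩ : E)) hj hj3
  refine ⟨A.map E.subtype, ⟨⟨t, ht⟩, hAle (mem_zpowers _), rfl⟩, map_subtype_le A, ?_⟩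
  rw [card_map_of_injective E.subtype_injective, hA]
  norm_num

/-- If every elementary subgroup of order eight at an involution is self-centralising, the sectional
rank is at most four. -/
theorem sectional_of_eight (h2 : IsPGroup 2 G) {t : G} (ht : orderOf t = 2)
    (hbad : ∀ A : Subgroup G, (∀ a ∈ A, a * a = 1) → Nat.card A = 8 → t ∈ A →
      ∀ c : G, (∀ a ∈ A, c * a = a * c) → c ∈ A) : Cfsg.SectionalPRankLE 2 4 G := by
  classical
  have hharada : ∀ E : Subgroup G, (∀ e ∈ E, e * e = 1) → 8 ≤ Nat.card E → t ∈ E →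
      Cfsg.SectionalPRankLE 2 4 G := by
    intro E hE h8 htE
    obtain ⟨A, htA, hAE, hA8⟩ := exists_eight hE h8 htE
    have hA : ∀ a ∈ A, a * a = 1 := fun a ha => hE a (hAE ha)
    exact CfsgLib.LocalEvenB.SelfCentralEight.Main.sectional_le_four h2 A
      (fun x hx y hy => comm_of_sq hA hx hy) hA hA8 fun c hc =>
        hbad A hA hA8 htA c fun a ha => (mem_centralizer_iff.mp hc a ha).symm
  by_cases hsmall : ∀ B : Subgroup G, B.Normal → IsMulCommutative B → (∀ b ∈ B, b ^ 2 = 1) → Nat.card B ≤ 4
  · exact Cfsg.Agent.S0501.result h2 hsmall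
  push Not at hsmall
  obtain ⟨B, hBn, hBc, hB2, hB4⟩ := hsmall
  have hBsq : ∀ b ∈ B, b * b = 1 := fun b hb => by rw [← pow_two]; exact hB2 b hb
  have hB8 : 8 ≤ Nat.card B := by
    haveI : Fact (Nat.Prime 2) := ⟨Nat.prime_two⟩
    obtain ⟨n, hn⟩ := (h2.to_subgroup B).exists_card_eq
    rw [hn] at hB4 ⊢
    have : 3 ≤ n := by
      by_contra hlt
      have : 2 ^ n ≤ 2 ^ 2 := Nat.pow_le_pow_right (by norm_num) (by omega)
      omega
    exact (show (8 : ℕ) = 2 ^ 3 by norm_num) ▸ Nat.pow_le_pow_right (by norm_num) this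
  by_cases htB : t ∈ B
  · exact hharada B hBsq hB8 htB
  have htt : t * t = 1 := by rw [← pow_two, ← ht, pow_orderOf_eq_one]
  have htinv : t⁻¹ = t := (mul_eq_one_iff_inv_eq.mp htt)
  set C := B ⊓ centralizer ({t} : Set G) with hC
  have hmap : ∀ b ∈ B, t * b * t * b ∈ C := by
    intro b hb
    have hc : t * b * t ∈ B := by
      have := hBn.conj_mem b hb t
      rwa [htinv] at this
    refine ⟨mul_mem hc hb, mem_centralizer_singleton_iff.mpr ?_⟩
    have e : t * b * t * b = b * (t * b * t) := comm_of_sq hBsq hc hb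
    calc t * b * t * b * t = t * b * t * (b * t) := by group
      _ = t * (b * t * b * t) := by group
      _ = t * (t * t * (b * t * b * t)) := by rw [htt, one_mul]
      _ = t * (t * (t * b * t * b) * t) := by group
      _ = t * (t * (b * (t * b * t)) * t) := by rw [e]
      _ = (t * t) * (b * t * b) * (t * t) := by group
      _ = b * t * b := by rw [htt]; group
      _ = (t * t) * (b * t * b) := by rw [htt, one_mul]
      _ = t * (t * b * t * b) := by group
  let φ : B →* C :=
    { toFun := fun b => ⟨t * b * t * b, hmap b b.2⟩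
      map_one' := Subtype.ext (by simp [htt])
      map_mul' := fun a b => Subtype.ext (by
        have hc : ∀ b ∈ B, t * b * t ∈ B := fun b hb => by
          have := hBn.conj_mem b hb t
          rwa [htinv] at this
        show t * (a * b : G) * t * (a * b) = t * a * t * a * (t * b * t * b)
        calc t * (a * b : G) * t * (a * b) = t * a * (t * t) * b * t * (a * b) := by rw [htt]; group
          _ = t * a * t * ((t * b * t) * a) * b := by group
          _ = t * a * t * (a * (t * b * t)) * b := by rw [comm_of_sq hBsq (hc _ b.2) a.2]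
          _ = _ := by group) }
  have hker : φ.ker.map B.subtype ≤ C := by
    rintro _ ⟨b, hb, rfl⟩
    refine ⟨b.2, mem_centralizer_singleton_iff.mpr ?_⟩
    have h1 : t * (b : G) * t * b = 1 := congrArg Subtype.val (MonoidHom.mem_ker.mp hb)
    calc (b : G) * t = (b : G) * t * ((b : G) * b) := by rw [hBsq _ b.2, mul_one]
      _ = (t * t) * ((b : G) * t * b) * b := by rw [htt]; group
      _ = t * (t * (b : G) * t * b) * b := by group
      _ = t * b := by rw [h1, mul_one]
  have hcard : Nat.card B ≤ Nat.card C * Nat.card C := by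
    rw [← φ.ker.card_mul_index, Subgroup.index_ker]
    refine Nat.mul_le_mul ?_ (card_le_card_group _)
    rw [← card_map_of_injective B.subtype_injective]
    exact card_le_of_le hker
  have hC4 : 4 ≤ Nat.card C := by
    haveI : Fact (Nat.Prime 2) := ⟨Nat.prime_two⟩
    obtain ⟨m, hm⟩ := (h2.to_subgroup C).exists_card_eq
    rw [hm] at hcard ⊢
    rcases m with _ | _ | m
    · simp at hcard; omega
    · simp at hcard; omega
    · exact (show (4 : ℕ) = 2 ^ 2 by norm_num) ▸ Nat.pow_le_pow_right (by norm_num) (by omega)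
  have htC : ∀ c ∈ C, c * t = t * c := fun c hc => mem_centralizer_singleton_iff.mp hc.2
  let E : Subgroup G :=
    { carrier := {x | x ∈ C ∨ t * x ∈ C}
      one_mem' := Or.inl (one_mem _)
      mul_mem' := fun {a b} ha hb => by
        rcases ha with ha | ha <;> rcases hb with hb | hb
        · exact Or.inl (mul_mem ha hb)
        · refine Or.inr ?_
          rw [show t * (a * b) = a * (t * b) by rw [← mul_assoc, ← htC a ha, mul_assoc]]
          exact mul_mem ha hb
        · refine Or.inr ?_
          rw [← mul_assoc]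
          exact mul_mem ha hb
        · refine Or.inl ?_
          have e : a * b = (t * a) * (t * b) := by
            calc a * b = (t * t) * (a * b) := by rw [htt, one_mul]
              _ = t * ((t * a) * b) := by group
              _ = t * (t * a) * b := by group
              _ = (t * a) * t * b := by rw [← htC _ ha]
              _ = (t * a) * (t * b) := by group
          rw [e]
          exact mul_mem ha hb
      inv_mem' := fun {a} ha => by
        rcases ha with ha | ha
        · exact Or.inl (inv_mem ha)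
        · refine Or.inr ?_
          have e : t * a⁻¹ = (t * a)⁻¹ := by
            rw [mul_inv_rev, htinv]
            calc t * a⁻¹ = t * ((t * a)⁻¹ * t) := by group
              _ = (t * (t * a)⁻¹) * t := by group
              _ = ((t * a)⁻¹ * t) * t := by rw [← htC _ (inv_mem ha)]
              _ = a⁻¹ * t⁻¹ * (t * t) := by group
              _ = a⁻¹ * t := by rw [htt, mul_one, htinv]
          rw [e]
          exact inv_mem ha }
  have hEsq : ∀ e ∈ E, e * e = 1 := by
    intro e he
    rcases he with he | he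
    · exact hBsq e he.1
    · have h1 := hBsq _ he.1
      calc e * e = (t * t) * e * e := by rw [htt, one_mul]
        _ = t * (t * e) * e := by group
        _ = (t * e) * t * e := by rw [← htC _ he]
        _ = 1 := by rw [← h1]; group
  have htE : t ∈ E := Or.inr (by rw [htt]; exact one_mem C)
  refine hharada E hEsq ?_ htE
  have hCE : C ≤ E := fun c hc => Or.inl hc
  have hne : C.relIndex E ≠ 1 := fun h => htB (relIndex_eq_one.mp h htE).1
  have hne0 : C.relIndex E ≠ 0 := index_ne_zero_of_finite
  have h1 := relIndex_mul_card hCE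
  calc 8 = 2 * 4 := by norm_num
    _ ≤ C.relIndex E * Nat.card C := Nat.mul_le_mul (by omega) hC4
    _ = Nat.card E := h1

end CfsgLib.Perm.FixityFour.Rank
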