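import Cfsg.Agent.Lib.Perm.FixityFour.Transfer
import Cfsg.Agent.Lib.Solvable.FixityTwo
import Cfsg.Prelude.Def_Involutions

/-!
Fixity four with involutions fixing at most three points, some fixing at least one: a strongly
embedded subgroup or a dihedral or semidihedral Sylow 2-subgroup.
-/

set_option autoImplicit false
set_option linter.style.haveILetI false

namespace CfsgLib.Perm.FixityFour

open MulAction Subgroup
open scoped Pointwise

variable {G Ω : Type*} [Group G] [Finite G] [MulAction G Ω] [Finite Ω]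

omit [MulAction G Ω] [Finite Ω] in
/-- A nontrivial 2-element has an involution among its powers. -/
theorem exists_involution_pow {w : G} {e : ℕ} (hw : w ^ 2 ^ e = 1) (hw1 : w ≠ 1) :
    ∃ j : ℕ, orderOf (w ^ j) = 2 := by
  have h2 : 2 ∣ orderOf w := by
    obtain ⟨i, -, hi⟩ := (Nat.dvd_prime_pow Nat.prime_two).mp (orderOf_dvd_of_pow_eq_one hw)
    rcases i with _ | i
    · exact absurd (orderOf_eq_one_iff.mp (by simpa using hi)) hw1
    · exact hi ▸ dvd_pow_self 2 (by omega)
  exact ⟨orderOf w / 2, orderOf_pow_orderOf_div (orderOf_pos w).ne' h2⟩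

omit [MulAction G Ω] [Finite Ω] in
theorem exists_pow_two_pow (S : Sylow 2 G) {w : G} (hw : w ∈ (S : Subgroup G)) :
    ∃ e : ℕ, w ^ 2 ^ e = 1 := by
  obtain ⟨e, he⟩ := S.isPGroup' ⟨w, hw⟩
  exact ⟨e, congrArg Subtype.val he⟩

/-- If involutions fix at most `f` points, a nontrivial 2-element fixing the fixed set of an
involution with `f` fixed points pointwise has exactly this fixed set. -/
theorem fixedBy_eq_of_max {f : ℕ} (hf : ∀ g : G, orderOf g = 2 → Nat.card (fixedBy Ω g) ≤ f)
    {F : Set Ω} (hF : F.ncard = f) {w : G} {e : ℕ} (hw : w ^ 2 ^ e = 1) (hw1 : w ≠ 1)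
    (hwF : ∀ x ∈ F, w • x = x) : fixedBy Ω w = F := by
  obtain ⟨j, hj⟩ := exists_involution_pow hw hw1
  have hsub : F ⊆ fixedBy Ω w := hwF
  have hle : (fixedBy Ω (w ^ j)).ncard ≤ F.ncard :=
    ((Nat.card_coe_set_eq _).symm.trans_le (hf _ hj)).trans_eq hF.symm
  exact Set.Subset.antisymm
    ((fixedBy_pow_subset w j).trans
      (Set.eq_of_subset_of_ncard_le (hsub.trans (fixedBy_pow_subset w j)) hle (Set.toFinite _)).symm.subset)
    hsub

variable [FaithfulSMul G Ω] [IsPretransitive G Ω]

/-- The case `1 ≤ f ≤ 3`. -/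
theorem small_fix [IsSimpleGroup G] (hna : ¬ IsMulCommutative G) (f : ℕ) (h1 : 1 ≤ f) (h3 : f ≤ 3)
    (hf : ∀ g : G, orderOf g = 2 → Nat.card (fixedBy Ω g) ≤ f) {t : G} (ht : orderOf t = 2)
    (htf : Nat.card (fixedBy Ω t) = f) :
    (∃ H : Subgroup G, Cfsg.IsStronglyEmbedded H) ∨
      ∃ S : Sylow 2 G, (∃ n : ℕ, Nonempty ((S : Subgroup G) ≃* DihedralGroup n)) ∨
        Cfsg.IsQuasiDihedral (S : Subgroup G) := by
  classical
  haveI : Fact (Nat.Prime 2) := ⟨Nat.prime_two⟩
  set F : Set Ω := fixedBy Ω t with hFdef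
  have hFc : F.ncard = f := (Nat.card_coe_set_eq _).symm.trans htf
  set M := stabilizer G F with hM
  set K := fixingSubgroup G F with hK
  have htt : t * t = 1 := by rw [← pow_two, ← ht, pow_orderOf_eq_one]
  have ht1 : t ≠ 1 := fun e => by simp [e] at ht
  have htK : t ∈ K := mem_kernel_iff.mpr fun x hx => hx
  have htM : t ∈ M := kernel_le_setStab F htK
  have hz2 : IsPGroup 2 (zpowers (⟨t, htM⟩ : M)) := IsPGroup.of_card (n := 1)
    (by rw [Nat.card_zpowers, Subgroup.orderOf_mk, ht, pow_one])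
  obtain ⟨T, hT⟩ := hz2.exists_le_sylow
  obtain ⟨S, hS⟩ := ((T.isPGroup').map M.subtype).exists_le_sylow
  have htS : t ∈ (S : Subgroup G) := hS ⟨⟨t, htM⟩, hT (mem_zpowers _), rfl⟩
  set W := (S : Subgroup G) ⊓ K with hW
  set R := (S : Subgroup G) ⊓ M with hR
  have hWR : W ≤ R := inf_le_inf_left _ (kernel_le_setStab F)
  have hfix : ∀ w ∈ W, w ≠ 1 → fixedBy Ω w = F := by
    intro w hw hw1
    obtain ⟨e, he⟩ := exists_pow_two_pow S hw.1
    exact fixedBy_eq_of_max hf hFc he hw1 (mem_kernel_iff.mp hw.2)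
  have hnormW : ∀ r ∈ R, ∀ w ∈ W, r * w * r⁻¹ ∈ W := fun r hr w hw =>
    ⟨(S : Subgroup G).mul_mem ((S : Subgroup G).mul_mem hr.1 hw.1) ((S : Subgroup G).inv_mem hr.1),
      conj_mem_kernel hr.2 hw.2⟩
  have hconjM : ∀ g : G, g ∈ (S : Subgroup G) → g * t * g⁻¹ ∈ W → g ∈ R := by
    intro g hg hgt
    refine ⟨hg, mem_stabilizer_iff.mpr ?_⟩
    have h := hfix _ hgt (fun e => ht1 (conj_eq_one_iff.mp e))
    rw [fixedBy_conj] at h
    exact h
  have hidx : W.relIndex R ≤ 2 := by
    have hd : W.relIndex R ∣ f.factorial := by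
      have := relIndex_kernel_dvd (F := F) (R := R) inf_le_right
      rw [hFc] at this
      have e : W.relIndex R = K.relIndex R := by
        conv_rhs => rw [← inf_relIndex_right]
        congr 1
        rw [hW, hR, ← inf_assoc, inf_comm K, inf_assoc, inf_eq_left.mpr (kernel_le_setStab F)]
      rw [e]
      exact this
    obtain ⟨n, hn⟩ := (S.isPGroup'.to_le (inf_le_left : R ≤ _)).index (W.subgroupOf R)
    rw [Subgroup.relIndex] at hd ⊢
    rw [hn] at hd ⊢
    rcases n with _ | _ | n
    · norm_num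
    · norm_num
    · exfalso
      have h4 : 4 ∣ f.factorial := (dvd_trans (Dvd.intro_left (2 ^ n) (by ring)) hd)
      interval_cases f <;> norm_num [Nat.factorial] at h4
  obtain ⟨a, haF⟩ : F.Nonempty := Set.nonempty_of_ncard_ne_zero (by omega)
  obtain ⟨b, hbF⟩ : ∃ b, b ∉ F := by
    by_contra! h
    exact ht1 (eq_of_smul_eq_smul (α := Ω) fun x => by rw [one_smul]; exact h x)
  have hMne : M ≠ ⊤ := setStab_ne_top haF hbF
  by_cases hWReq : R ≤ W
  · -- the kernel contains a whole Sylow subgroup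
    left
    have hSR : (S : Subgroup G) ≤ R := by
      by_contra hcon
      haveI := S.isPGroup'.isNilpotent
      obtain ⟨g, hgN, hgR⟩ := SetLike.exists_of_lt (Group.normalizerCondition_of_isNilpotent
        (R.subgroupOf (S : Subgroup G)) (Ne.lt_top fun h => hcon (subgroupOf_eq_top.mp h)))
      refine hgR (mem_subgroupOf.mpr (hconjM g g.2 (hWReq ?_)))
      exact mem_subgroupOf.mp ((mem_normalizer_iff.mp hgN ⟨t, htS⟩).mp
        (mem_subgroupOf.mpr ⟨htS, htM⟩))
    have hSM : (S : Subgroup G) ≤ M := hSR.trans inf_le_right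
    have hinv : ∀ x ∈ M, orderOf x = 2 → fixedBy Ω x = F := by
      intro x hx hx2
      obtain ⟨Q, hQ⟩ := (IsPGroup.of_card (G := zpowers (⟨x, hx⟩ : M)) (p := 2) (n := 1)
        (by rw [Nat.card_zpowers, Subgroup.orderOf_mk, hx2, pow_one])).exists_le_sylow
      obtain ⟨m, hm⟩ := MulAction.exists_smul_eq M Q (S.subtype hSM)
      have hmem : (m : G) * x * (m : G)⁻¹ ∈ (S : Subgroup G) := by
        have h : MulAut.conj m • (⟨x, hx⟩ : M) ∈ ((m • Q : Sylow 2 M) : Subgroup M) :=
          Subgroup.smul_mem_pointwise_smul _ _ _ (hQ (mem_zpowers _))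
        rw [hm] at h
        exact h
      have h1 := hfix _ (hWReq (hSR hmem)) fun e => by
        rw [conj_eq_one_iff.mp e] at hx2; simp at hx2
      rw [fixedBy_conj] at h1
      calc fixedBy Ω x = (m : G)⁻¹ • ((m : G) • fixedBy Ω x) := (inv_smul_smul _ _).symm
        _ = (m : G)⁻¹ • F := by rw [h1]
        _ = F := mem_stabilizer_iff.mp (inv_mem m.2)
    refine ⟨M, hMne, ?_, fun g hg => ?_⟩
    · exact even_iff_two_dvd.mpr (ht ▸ M.orderOf_dvd_natCard htM)
    · by_contra heven
      rw [Nat.not_odd_iff_even, even_iff_two_dvd] at heven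
      obtain ⟨⟨x, hxM, y, hyM, hyx⟩, hx2⟩ := exists_prime_orderOf_dvd_card' 2 heven
      replace hx2 : orderOf x = 2 := (orderOf_injective (Subgroup.subtype _) Subtype.val_injective _).trans hx2
      refine hg (mem_stabilizer_iff.mpr ?_)
      change g * y * g⁻¹ = x at hyx
      have hy2 : orderOf y = 2 := by
        rw [← hx2, ← hyx, ← MulAut.conj_apply, MulEquiv.orderOf_eq]
      have h := hinv x hxM hx2
      rw [← hyx, fixedBy_conj, hinv y hyM hy2] at h
      exact h
  right
  refine ⟨S, ?_⟩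
  have hWi : W.relIndex R = 2 := by
    have h1 : W.relIndex R ≠ 1 := fun h => hWReq (relIndex_eq_one.mp h)
    have h0 : W.relIndex R ≠ 0 := index_ne_zero_of_finite
    omega
  have htW : t ∈ W := ⟨htS, htK⟩
  have hcardR : Nat.card R = 2 * Nat.card W := by
    rw [← hWi, ← Subgroup.relIndex_bot_left W, ← Subgroup.relIndex_bot_left R,
      ← relIndex_mul_relIndex (⊥ : Subgroup G) W R bot_le hWR, mul_comm]
  haveI := S.isPGroup'.isNilpotent
  by_cases hRS : (S : Subgroup G) ≤ R
  · -- `W` has index two in `S`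
    have hRSeq : R = (S : Subgroup G) := le_antisymm inf_le_left hRS
    have hWS : W.relIndex (S : Subgroup G) = 2 := hRSeq ▸ hWi
    obtain ⟨x0, hx0S, hx0W⟩ := SetLike.not_le_iff_exists.mp (show ¬ (S : Subgroup G) ≤ W from
      fun h => hWReq (inf_le_left.trans h))
    haveI := Fintype.ofFinite (S : Subgroup G)
    obtain ⟨⟨x, hxS⟩, hxmem, hxmin⟩ := Finset.exists_min_image
      ((Finset.univ : Finset ↥(S : Subgroup G)).filter fun y : ↥(S : Subgroup G) => (y : G) ∉ W)
      (fun y : ↥(S : Subgroup G) => orderOf (y : G)) ⟨⟨x0, hx0S⟩, by simpa using hx0W⟩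
    have hxW : x ∉ W := by simpa using hxmem
    obtain ⟨g, -, hgW⟩ := exists_conj_mem hna S W hWS hxS hxW fun y hy hyW =>
      hxmin ⟨y, hy⟩ (by simpa using hyW)
    have hx1 : x ≠ 1 := fun e => hxW (e ▸ one_mem W)
    have hpow : ∀ i : ℕ, x ^ i ≠ 1 → fixedBy Ω (x ^ i) = g⁻¹ • F := by
      intro i hi
      have e : g * x ^ i * g⁻¹ = (g * x * g⁻¹) ^ i := conj_pow.symm
      rw [← hfix _ (pow_mem hgW i) (by rw [← e]; exact fun h => hi (conj_eq_one_iff.mp h)), ← e,
        fixedBy_conj, inv_smul_smul]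
    have hFne : g⁻¹ • F ≠ F := by
      intro h
      refine hxW ⟨hxS, mem_kernel_iff.mpr fun p hp => ?_⟩
      rw [← h, ← hpow 1 (by rwa [pow_one]), pow_one] at hp
      exact hp
    have hxx : x * x = 1 := by
      by_contra h2
      have hsq : x * x ∈ W := mul_self_mem_of_index_two (H := W.subgroupOf (S : Subgroup G)) hWS ⟨x, hxS⟩
      refine hFne ?_
      rw [← hpow 2 (by rwa [pow_two]), pow_two, hfix _ hsq h2]
    have hxo : orderOf x = 2 := orderOf_eq_prime (by rw [pow_two, hxx]) hx1
    haveI hWn : (W.subgroupOf (S : Subgroup G)).Normal := normal_of_index_eq_two hWS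
    obtain ⟨z, hzW, hz, hzc⟩ := CfsgLib.TwoGroups.Classify.exists_central_involution
      (S.isPGroup' : IsPGroup 2 (S : Subgroup G))
      (W.subgroupOf (S : Subgroup G))
      (fun h => ht1 (congrArg Subtype.val
        ((Subgroup.eq_bot_iff_forall _).mp h ⟨t, htS⟩ (mem_subgroupOf.mpr htW))))
    have hz1 : z ≠ 1 := fun e => by simp [e] at hz
    set C := centralizer ({(⟨x, hxS⟩ : (S : Subgroup G))} : Set (S : Subgroup G)) with hC
    have hzC : z ∈ C := mem_centralizer_singleton_iff.mpr (mem_center_iff.mp hzc _).symm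
    have hxC : (⟨x, hxS⟩ : (S : Subgroup G)) ∈ C := mem_centralizer_singleton_iff.mpr rfl
    set CW := W.subgroupOf (S : Subgroup G) ⊓ C with hCW
    have hCWc : Nat.card CW ≤ 2 := by
      have hsub : CW.map (S : Subgroup G).subtype ≤ stabilizer G (g⁻¹ • F) := by
        rintro _ ⟨c, hc, rfl⟩
        refine mem_stabilizer_iff.mpr ?_
        rw [← hpow 1 (by rwa [pow_one]), pow_one]
        exact smul_fixedBy_of_comm (congrArg Subtype.val (mem_centralizer_singleton_iff.mp hc.2))
      have hd := relIndex_kernel_dvd (F := g⁻¹ • F) hsub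
      have hbot : fixingSubgroup G (g⁻¹ • F) ⊓ CW.map (S : Subgroup G).subtype = ⊥ := by
        rw [eq_bot_iff]
        rintro _ ⟨hk, c, hc, rfl⟩
        rw [Subgroup.mem_bot]
        by_contra hc1
        refine hFne (Set.eq_of_subset_of_ncard_le ?_ (by rw [Set.ncard_smul_set]) (Set.toFinite _))
        intro p hp
        rw [← hfix _ (mem_subgroupOf.mp hc.1) hc1]
        exact mem_kernel_iff.mp hk p hp
      rw [← inf_relIndex_right, hbot, relIndex_bot_left, card_map_of_injective (S : Subgroup G).subtype_injective,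
        Set.ncard_smul_set, hFc] at hd
      obtain ⟨n, hn⟩ := (IsPGroup.to_subgroup (S.isPGroup' : IsPGroup 2 (S : Subgroup G)) CW).exists_card_eq
      rw [hn] at hd ⊢
      rcases n with _ | _ | n
      · norm_num
      · norm_num
      · exfalso
        have h4 : 4 ∣ f.factorial := (dvd_trans (Dvd.intro_left (2 ^ n) (by ring)) hd)
        interval_cases f <;> norm_num [Nat.factorial] at h4
    have hCle : Nat.card C ≤ 4 := by
      have h1 : (W.subgroupOf (S : Subgroup G)).relIndex C ≤ 2 :=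
        (Nat.le_of_dvd (by rw [← Subgroup.relIndex, hWS]; norm_num)
          (Subgroup.relIndex_dvd_index_of_normal (W.subgroupOf (S : Subgroup G)) C)).trans_eq hWS
      have h2 := relIndex_mul_relIndex (⊥ : Subgroup (S : Subgroup G)) CW C bot_le inf_le_right
      rw [relIndex_bot_left, relIndex_bot_left, hCW, inf_relIndex_right] at h2
      rw [← h2]
      exact Nat.mul_le_mul hCWc h1 |>.trans (by norm_num)
    have hnc : ¬ IsCyclic (S : Subgroup G) := by
      intro hcyc
      haveI := Fintype.ofFinite (S : Subgroup G)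
      have h2 : Set.ncard {y : (S : Subgroup G) | y ^ 2 = 1} ≤ 2 := by
        rw [← Nat.card_coe_set_eq, Nat.card_eq_fintype_card, Fintype.card_subtype]
        exact IsCyclic.card_pow_eq_one_le (by norm_num)
      have h3 : ({1, ⟨x, hxS⟩, z} : Set (S : Subgroup G)) ⊆ {y | y ^ 2 = 1} := by
        rintro y (rfl | rfl | rfl)
        · exact one_pow 2
        · exact Subtype.ext (by simp [pow_two, hxx])
        · exact orderOf_dvd_iff_pow_eq_one.mp hz.dvd
      have h4 : ({1, ⟨x, hxS⟩, z} : Set (S : Subgroup G)).ncard = 3 :=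
        Set.ncard_eq_three.mpr ⟨_, _, _, fun e => hx1 (congrArg Subtype.val e).symm, Ne.symm hz1,
          fun e => hxW (by have := mem_subgroupOf.mp hzW; rwa [← e] at this), rfl⟩
      have := Set.ncard_le_ncard h3 (Set.toFinite _)
      omega
    refine CfsgLib.Solvable.FixityTwo.dihedral_or_quasiDihedral S.isPGroup'
      (t := ⟨x, hxS⟩) (by rw [Subgroup.orderOf_mk]; exact hxo) ?_ hnc
    refine le_antisymm hCle ?_
    obtain ⟨n, hn⟩ := (IsPGroup.to_subgroup (S.isPGroup' : IsPGroup 2 (S : Subgroup G)) C).exists_card_eq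
    rw [hn]
    have h3 : 3 ≤ Nat.card C := by
      let q : Fin 3 → C := ![1, ⟨_, hxC⟩, ⟨_, hzC⟩]
      have hq : Function.Injective q := by
        have e1 : (1 : C) ≠ ⟨_, hxC⟩ := fun e => hx1 (congrArg (fun u : C => ((u : (S : Subgroup G)) : G)) e).symm
        have e2 : (1 : C) ≠ ⟨_, hzC⟩ := fun e => hz1 (congrArg Subtype.val e).symm
        have e3 : (⟨_, hxC⟩ : C) ≠ ⟨_, hzC⟩ := fun e => hxW (by
          have h' : (⟨x, hxS⟩ : (S : Subgroup G)) = z := congrArg Subtype.val e
          have := mem_subgroupOf.mp hzW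
          rwa [← h'] at this)
        intro i j h
        fin_cases i <;> fin_cases j <;> first
          | rfl | exact absurd h e1 | exact absurd h.symm e1 | exact absurd h e2
          | exact absurd h.symm e2 | exact absurd h e3 | exact absurd h.symm e3
      simpa using Nat.card_le_card_of_injective q hq
    rw [hn] at h3
    rcases n with _ | _ | n
    · norm_num at h3
    · norm_num at h3
    · exact (show (4 : ℕ) = 2 ^ 2 by norm_num) ▸ Nat.pow_le_pow_right (by norm_num) (by omega)
  · -- `W` has order two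
    obtain ⟨g, hgN, hgR⟩ := SetLike.exists_of_lt (Group.normalizerCondition_of_isNilpotent
      (R.subgroupOf (S : Subgroup G)) (Ne.lt_top fun h => hRS (subgroupOf_eq_top.mp h)))
    have hgR' : (g : G) ∉ R := fun h => hgR (mem_subgroupOf.mpr h)
    have hgc : ∀ r ∈ R, (g : G) * r * (g : G)⁻¹ ∈ R := fun r hr =>
      mem_subgroupOf.mp ((mem_normalizer_iff.mp hgN ⟨r, hr.1⟩).mp (mem_subgroupOf.mpr hr))
    have hdisj : ∀ w ∈ W, (g : G) * w * (g : G)⁻¹ ∈ W → w = 1 := by
      intro w hw hgw
      by_contra hw1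
      refine hgR' ⟨g.2, mem_stabilizer_iff.mpr ?_⟩
      conv_rhs => rw [← hfix _ hgw fun e => hw1 (conj_eq_one_iff.mp e), fixedBy_conj, hfix w hw hw1]
    have hW2 : Nat.card W = 2 := by
      let φ : W × W → R := fun ab => ⟨ab.1 * ((g : G) * ab.2 * (g : G)⁻¹),
        mul_mem (hWR ab.1.2) (hgc _ (hWR ab.2.2))⟩
      have hφ : Function.Injective φ := by
        rintro ⟨a, b⟩ ⟨a', b'⟩ h
        have h' : (a : G) * ((g : G) * b * (g : G)⁻¹) = a' * ((g : G) * b' * (g : G)⁻¹) := congrArg Subtype.val h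
        have he : (g : G) * ((b : G) * (b' : G)⁻¹) * (g : G)⁻¹ = (a : G)⁻¹ * a' := by
          calc (g : G) * ((b : G) * (b' : G)⁻¹) * (g : G)⁻¹ =
              (a : G)⁻¹ * ((a : G) * ((g : G) * b * (g : G)⁻¹)) * ((g : G) * (b' : G) * (g : G)⁻¹)⁻¹ := by group
            _ = _ := by rw [h']; group
        have hb := hdisj _ (mul_mem b.2 (inv_mem b'.2)) (he ▸ mul_mem (inv_mem a.2) a'.2)
        have hbb : b = b' := Subtype.ext (mul_inv_eq_one.mp hb)
        subst hbb
        exact Prod.ext (Subtype.ext (mul_right_cancel h')) rfl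
      have hle := Nat.card_le_card_of_injective φ hφ
      rw [Nat.card_prod, hcardR] at hle
      have h2 : 2 ≤ Nat.card W := by
        have := (Subgroup.one_lt_card_iff_ne_bot W).mpr fun h => ht1 (Subgroup.mem_bot.mp (h ▸ htW))
        omega
      exact le_antisymm (Nat.le_of_mul_le_mul_right hle (by omega)) h2
    have hWel : ∀ w ∈ W, w = 1 ∨ w = t := by
      intro w hw
      by_contra! hwn
      have : 3 ≤ Nat.card W := by
        have h3 : ({1, t, w} : Set G).ncard = 3 :=
          Set.ncard_eq_three.mpr ⟨_, _, _, Ne.symm ht1, Ne.symm hwn.1, Ne.symm hwn.2, rfl⟩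
        have h4 : ({1, t, w} : Set G) ⊆ (W : Set G) := by
          rintro y (rfl | rfl | rfl)
          · exact one_mem W
          · exact htW
          · exact hw
        have := Set.ncard_le_ncard h4 (Set.toFinite _)
        rw [h3, ← Nat.card_coe_set_eq] at this
        exact this
      omega
    set C := centralizer ({(⟨t, htS⟩ : (S : Subgroup G))} : Set (S : Subgroup G)) with hC
    have hCR : C = R.subgroupOf (S : Subgroup G) := by
      ext c
      rw [hC, mem_centralizer_singleton_iff, mem_subgroupOf]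
      constructor
      · intro hc
        have hc' : (c : G) * t = t * c := congrArg Subtype.val hc
        exact ⟨c.2, mem_stabilizer_iff.mpr (smul_fixedBy_of_comm hc')⟩
      · intro hc
        rcases hWel _ (hnormW _ hc t htW) with h | h
        · exact absurd (conj_eq_one_iff.mp h) ht1
        · exact Subtype.ext (mul_inv_eq_iff_eq_mul.mp h)
    have hnc : ¬ IsCyclic (S : Subgroup G) := by
      intro hcyc
      haveI : IsMulCommutative (S : Subgroup G) := hcyc.isMulCommutative
      refine hgR' (hconjM g g.2 ?_)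
      have e : (g : G) * t = t * g := congrArg Subtype.val (mul_comm' g ⟨t, htS⟩)
      rw [e, mul_inv_cancel_right]
      exact htW
    refine CfsgLib.Solvable.FixityTwo.dihedral_or_quasiDihedral S.isPGroup'
      (t := ⟨t, htS⟩) (by rw [Subgroup.orderOf_mk]; exact ht) ?_ hnc
    rw [← hC, hCR, Nat.card_congr (Subgroup.subgroupOfEquivOfLe (inf_le_left : R ≤ _)).toEquiv, hcardR, hW2]

end CfsgLib.Perm.FixityFour
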