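import Cfsg.Agent.Lib.Perm.FixityFour.Basic
import Cfsg.Agent.Lib.Perm.FixityFour.SmallFix
import Cfsg.Agent.Lib.Perm.FixityFour.Rank
import Cfsg.Agent.Lib.Perm.FixityFour.PermFour

/-!
The common setting of involutions with four fixed points.
-/

set_option autoImplicit false
set_option linter.style.haveILetI false

namespace CfsgLib.Perm.FixityFour

open MulAction Subgroup
open scoped Pointwise

variable {G Ω : Type*} [Group G] [MulAction G Ω]

/-- Every involution with a fixed point fixes four points, and no nontrivial element fixes more. -/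
structure Four (G Ω : Type*) [Group G] [MulAction G Ω] : Prop where
  fix : Fix4 G Ω
  inv : ∀ u : G, orderOf u = 2 → ∀ a : Ω, u • a = a → (fixedBy Ω u).ncard = 4

/-- Involutions in a common 2-subgroup with a fixed point have the same fixed points. -/
def Uniq (G Ω : Type*) [Group G] [MulAction G Ω] : Prop :=
  ∀ T : Subgroup G, IsPGroup 2 T → ∀ a : Ω, T ≤ stabilizer G a → ∀ u ∈ T, ∀ v ∈ T,
    orderOf u = 2 → orderOf v = 2 → fixedBy Ω u = fixedBy Ω v

/-- A strongly embedded subgroup or sectional rank at most four. -/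
def Done (G : Type*) [Group G] : Prop :=
  (∃ H : Subgroup G, Cfsg.IsStronglyEmbedded H) ∨
    ∃ S : Sylow 2 G, Cfsg.SectionalPRankLE 2 4 (S : Subgroup G)

/-- The action of a subgroup of a setwise stabiliser. -/
def image {F : Set Ω} {R : Subgroup G} (hR : R ≤ stabilizer G F) : R →* Equiv.Perm ↥F :=
  (permHom F).comp (Subgroup.inclusion hR)

theorem image_apply {F : Set Ω} {R : Subgroup G} (hR : R ≤ stabilizer G F) (r : R) (x : F) :
    ((image hR r x : F) : Ω) = (r : G) • (x : Ω) := rfl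

theorem image_eq_one_iff {F : Set Ω} {R : Subgroup G} (hR : R ≤ stabilizer G F) {r : R} :
    image hR r = 1 ↔ (r : G) ∈ fixingSubgroup G F := permHom_eq_one_iff

theorem image_eq_iff {F : Set Ω} {R : Subgroup G} (hR : R ≤ stabilizer G F) {r s : R} :
    image hR r = image hR s ↔ (r : G)⁻¹ * s ∈ fixingSubgroup G F := by
  rw [← inv_mul_eq_one, ← map_inv, ← map_mul, image_eq_one_iff]
  rfl

theorem image_fix_iff {F : Set Ω} {R : Subgroup G} (hR : R ≤ stabilizer G F) {r : R} {x : F} :
    image hR r x = x ↔ (r : G) • (x : Ω) = x := Subtype.ext_iff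

theorem mem_stab_of_comm {c y : G} (h : c * y = y * c) : c ∈ stabilizer G (fixedBy Ω y) :=
  mem_stabilizer_iff.mpr (smul_fixedBy_of_comm h)

variable [Finite G] [Finite Ω]

theorem Four.card_of_mem_kernel (h : Four G Ω) {F : Set Ω} (hF : F.ncard = 4) {w : G}
    (hw : w ∈ fixingSubgroup G F) (hw1 : w ≠ 1) : fixedBy Ω w = F :=
  fixedBy_eq_of_four h.fix hw1 hF (mem_kernel_iff.mp hw)

/-- A nontrivial 2-element with a fixed point has an involution power, fixing four points. -/
theorem Four.exists_pow (h : Four G Ω) {w : G} {e : ℕ} (hw : w ^ 2 ^ e = 1) (hw1 : w ≠ 1) {a : Ω}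
    (ha : w • a = a) : ∃ j : ℕ, orderOf (w ^ j) = 2 ∧ (fixedBy Ω (w ^ j)).ncard = 4 ∧
      fixedBy Ω w ⊆ fixedBy Ω (w ^ j) := by
  obtain ⟨j, hj⟩ := exists_involution_pow hw hw1
  exact ⟨j, hj, h.inv _ hj a (fixedBy_pow_subset w j ha), fixedBy_pow_subset w j⟩

omit [Finite G] [Finite Ω] in
theorem pow_two_eq_one {u : G} (hu : orderOf u = 2) : u * u = 1 := by
  rw [← pow_two, ← hu, pow_orderOf_eq_one]

omit [Finite G] [Finite Ω] in
theorem ne_one_of_order_two {u : G} (hu : orderOf u = 2) : u ≠ 1 := fun e => by simp [e] at hu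

omit [Finite G] [Finite Ω] in
theorem order_two {u : G} (hu : u * u = 1) (hu1 : u ≠ 1) : orderOf u = 2 :=
  orderOf_eq_prime (by rw [pow_two, hu]) hu1

/-- If only `1` and `y` in the centraliser of the involution `y` fix its four points, the
sectional rank is at most four. -/
theorem sectional_of_small_kernel (S : Sylow 2 G) {y : G} (hy : y ∈ (S : Subgroup G)) (hy2 : orderOf y = 2)
    (hF : (fixedBy Ω y).ncard = 4)
    (hker : ∀ c ∈ (S : Subgroup G), c * y = y * c → c ∈ fixingSubgroup G (fixedBy Ω y) → c = 1 ∨ c = y) :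
    Cfsg.SectionalPRankLE 2 4 (S : Subgroup G) := by
  classical
  refine Rank.sectional_of_eight S.isPGroup' (t := ⟨y, hy⟩) (by rw [Subgroup.orderOf_mk]; exact hy2)
    fun A hA hA8 htA c hc => ?_
  set F := fixedBy Ω y
  let C : Subgroup G := centralizer ({y} : Set G) ⊓ (S : Subgroup G)
  have hCF : C ≤ stabilizer G F := fun g hg => mem_stab_of_comm (mem_centralizer_singleton_iff.mp hg.1)
  have hF4 : Nat.card F = 4 := (Nat.card_coe_set_eq F).trans hF
  have hmemC : ∀ a ∈ A, (a : G) ∈ C := fun a ha => ⟨mem_centralizer_singleton_iff.mpr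
    (congrArg Subtype.val (Rank.comm_of_sq hA ha htA)), a.2⟩
  have hcC : (c : G) ∈ C := ⟨mem_centralizer_singleton_iff.mpr (congrArg Subtype.val (hc _ htA)), c.2⟩
  let ψ : C →* Equiv.Perm ↥F := image hCF
  let q : ↥A → C := fun a => ⟨((a : (S : Subgroup G)) : G), hmemC _ a.2⟩
  have hmul : ∀ a b : ↥A, q (a * b) = q a * q b := fun a b => rfl
  let φ : ↥A →* Equiv.Perm ↥F := MonoidHom.mk' (fun a => ψ (q a)) fun a b => by rw [hmul, map_mul]
  have hkey : ∀ g : C, ψ g = 1 → (g : G) = 1 ∨ (g : G) = y := fun g hg =>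
    hker _ g.2.2 (mem_centralizer_singleton_iff.mp g.2.1) ((image_eq_one_iff hCF).mp hg)
  have hφker : Nat.card φ.ker ≤ 2 := by
    let r : φ.ker → Bool := fun a => decide (((a : ↥A) : (S : Subgroup G)) = 1)
    have hr : Function.Injective r := by
      intro a b hab
      have hab' := decide_eq_decide.mp hab
      apply Subtype.ext; apply Subtype.ext; apply Subtype.ext
      rcases hkey _ a.2 with ha | ha <;> rcases hkey _ b.2 with hb | hb <;>
        change (((a : ↥A) : (S : Subgroup G)) : G) = _ at ha <;>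
        change (((b : ↥A) : (S : Subgroup G)) : G) = _ at hb <;> rw [ha, hb]
      · exact absurd (congrArg Subtype.val (hab'.mp (Subtype.ext ha))) (by rw [hb]; exact ne_one_of_order_two hy2)
      · exact absurd (congrArg Subtype.val (hab'.mpr (Subtype.ext hb))) (by rw [ha]; exact ne_one_of_order_two hy2)
    simpa using Nat.card_le_card_of_injective r hr
  have hrange : 4 ≤ Nat.card φ.range := by
    have h1 := φ.ker.card_mul_index
    rw [Subgroup.index_ker, hA8] at h1
    have h2 : Nat.card φ.ker * Nat.card φ.range ≤ 2 * Nat.card φ.range := Nat.mul_le_mul_right _ hφker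
    omega
  haveI := Fintype.ofFinite φ.range
  obtain ⟨⟨_, a, rfl⟩, ⟨_, b, rfl⟩, ha1, hb1, hab⟩ : ∃ a b : φ.range, a ≠ 1 ∧ b ≠ 1 ∧ a ≠ b := by
    have h1 : 2 ≤ ((Finset.univ : Finset φ.range).erase 1).card := by
      rw [Finset.card_erase_of_mem (Finset.mem_univ _), Finset.card_univ, ← Nat.card_eq_fintype_card]
      omega
    obtain ⟨a, ha, b, hb, hab⟩ := Finset.one_lt_card.mp h1
    exact ⟨a, b, (Finset.mem_erase.mp ha).1, (Finset.mem_erase.mp hb).1, hab⟩
  simp only [ne_eq, Subtype.ext_iff, OneMemClass.coe_one] at ha1 hb1 hab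
  have hinA : ∀ a : ↥A, ((a : (S : Subgroup G)) : G) * ((a : (S : Subgroup G)) : G) = 1 := fun a =>
    congrArg Subtype.val (hA a a.2)
  have hAsq : ∀ a : ↥A, a * a = 1 := fun a => Subtype.ext (hA a a.2)
  have hout : ψ ⟨c, hcC⟩ = φ 1 ∨ ψ ⟨c, hcC⟩ = φ a ∨ ψ ⟨c, hcC⟩ = φ b ∨ ψ ⟨c, hcC⟩ = φ (a * b) := by
    have hca : ∀ a : ↥A, ψ ⟨c, hcC⟩ * φ a = φ a * ψ ⟨c, hcC⟩ := fun a => by
      show ψ ⟨c, hcC⟩ * ψ (q a) = ψ (q a) * ψ ⟨c, hcC⟩
      rw [← map_mul, ← map_mul]
      exact congrArg ψ (Subtype.ext (congrArg (fun s : (S : Subgroup G) => (s : G)) (hc a a.2)))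
    rw [map_one, map_mul]
    exact PermFour.cent_four hF4 (by rw [← map_mul, hAsq, map_one]) ha1 (by rw [← map_mul, hAsq, map_one])
      hb1 hab (by rw [← map_mul, ← map_mul]; exact congrArg φ (Subtype.ext (Rank.comm_of_sq hA a.2 b.2)))
      (hca a) (hca b)
  obtain ⟨d, hd⟩ : ∃ d : ↥A, ψ ⟨c, hcC⟩ = φ d := by
    rcases hout with e | e | e | e <;> exact ⟨_, e⟩
  have h1 : ψ ((q d)⁻¹ * ⟨c, hcC⟩) = 1 := by
    rw [map_mul, map_inv, hd]
    exact inv_mul_cancel _
  rcases hkey _ h1 with e | e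
  · have : (d : (S : Subgroup G)) = c := Subtype.ext (inv_mul_eq_one.mp e)
    exact this ▸ d.2
  · have : (c : (S : Subgroup G)) = (d : (S : Subgroup G)) * ⟨y, hy⟩ := Subtype.ext (eq_mul_of_inv_mul_eq e)
    exact this ▸ mul_mem d.2 htA

/-- An elementary abelian group of permutations of four points has order at most four. -/
theorem perm_elementary_le {α : Type*} [Finite α] (h : Nat.card α = 4) (B : Subgroup (Equiv.Perm α))
    (hB : ∀ b ∈ B, b * b = 1) : Nat.card B ≤ 4 := by
  classical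
  by_contra hlt
  haveI := Fintype.ofFinite ↥B
  have h1 : 1 < ((Finset.univ : Finset ↥B).erase 1).card := by
    rw [Finset.card_erase_of_mem (Finset.mem_univ _), Finset.card_univ, ← Nat.card_eq_fintype_card]
    omega
  obtain ⟨a, ha, b, hb, hab⟩ := Finset.one_lt_card.mp h1
  have ha1 : (a : Equiv.Perm α) ≠ 1 := fun e => (Finset.mem_erase.mp ha).1 (Subtype.ext e)
  have hb1 : (b : Equiv.Perm α) ≠ 1 := fun e => (Finset.mem_erase.mp hb).1 (Subtype.ext e)
  have hsub : (B : Set (Equiv.Perm α)) ⊆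
      ({1, (a : Equiv.Perm α), (b : Equiv.Perm α), (a : Equiv.Perm α) * (b : Equiv.Perm α)} : Set (Equiv.Perm α)) := by
    intro c hc
    simpa using PermFour.cent_four h (hB a a.2) ha1 (hB b b.2) hb1 (fun e => hab (Subtype.ext e))
      (Rank.comm_of_sq hB a.2 b.2) (Rank.comm_of_sq hB hc a.2) (Rank.comm_of_sq hB hc b.2)
  refine hlt ((Nat.card_coe_set_eq (B : Set (Equiv.Perm α))).trans_le ?_)
  refine (Set.ncard_le_ncard hsub (Set.toFinite _)).trans ?_
  refine (Set.ncard_insert_le _ _).trans ?_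
  have := Set.ncard_insert_le (a : Equiv.Perm α) {(b : Equiv.Perm α), (a : Equiv.Perm α) * (b : Equiv.Perm α)}
  have := Set.ncard_insert_le (b : Equiv.Perm α) {(a : Equiv.Perm α) * (b : Equiv.Perm α)}
  simp only [Set.ncard_singleton] at this
  omega

omit [Finite G] [Finite Ω] in
theorem relIndex_kernel_inf {F : Set Ω} {R : Subgroup G} :
    (R ⊓ fixingSubgroup G F).relIndex R = (fixingSubgroup G F).relIndex R := inf_relIndex_left _ _

/-- The image of a 2-subgroup of a setwise stabiliser has order at most eight. -/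
theorem relIndex_le_eight {F : Set Ω} (hF : F.ncard = 4) {R : Subgroup G} (hR : R ≤ stabilizer G F)
    (h2 : IsPGroup 2 R) :
    (fixingSubgroup G F).relIndex R = 1 ∨ (fixingSubgroup G F).relIndex R = 2 ∨
      (fixingSubgroup G F).relIndex R = 4 ∨ (fixingSubgroup G F).relIndex R = 8 := by
  haveI : Fact (Nat.Prime 2) := ⟨Nat.prime_two⟩
  have hd := relIndex_kernel_dvd hR
  rw [hF] at hd
  obtain ⟨n, hn⟩ := h2.index ((fixingSubgroup G F).subgroupOf R)
  rw [Subgroup.relIndex] at hd ⊢
  rw [hn] at hd ⊢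
  have : n ≤ 3 := by
    by_contra hlt
    have h16 : 16 ∣ (4 : ℕ).factorial := dvd_trans (Nat.pow_dvd_pow 2 (show 4 ≤ n by omega)) hd
    norm_num [Nat.factorial] at h16
  interval_cases n <;> norm_num

theorem card_eq_relIndex_mul {F : Set Ω} (R : Subgroup G) :
    (fixingSubgroup G F).relIndex R * Nat.card ↥(R ⊓ fixingSubgroup G F) = Nat.card R := by
  rw [← relIndex_kernel_inf]
  exact LocalEvenB.SelfCentralEight.Sections.relIndex_mul_card inf_le_left

/-- A Sylow subgroup preserving a four-set with kernel of order at most four. -/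
theorem small_sylow (S : Sylow 2 G) {F : Set Ω} (hF : F.ncard = 4)
    (hS : (S : Subgroup G) ≤ stabilizer G F)
    (hW : Nat.card ↥((S : Subgroup G) ⊓ fixingSubgroup G F) ≤ 4) :
    Cfsg.SectionalPRankLE 2 4 (S : Subgroup G) := by
  haveI : Fact (Nat.Prime 2) := ⟨Nat.prime_two⟩
  refine LocalEvenB.SelfCentralEight.Sections.sectional_of_boundBy (k := 4) ?_
  obtain ⟨n, hn⟩ := S.isPGroup'.exists_card_eq
  have hmul := card_eq_relIndex_mul (F := F) (S : Subgroup G)
  rw [hn] at hmul
  have h8 := relIndex_le_eight hF hS S.isPGroup'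
  have hn5 : n ≤ 5 := by
    have h8' : (fixingSubgroup G F).relIndex (S : Subgroup G) ≤ 8 := by omega
    have : 2 ^ n ≤ 2 ^ 5 := by rw [← hmul]; exact (Nat.mul_le_mul h8' hW).trans (by norm_num)
    exact (Nat.pow_le_pow_iff_right (by norm_num)).mp this
  rcases Nat.lt_or_ge n 5 with hlt | hge
  · exact Rank.boundBy_of_card_le (hn ▸ Nat.pow_le_pow_right (by norm_num) (by omega))
  obtain rfl : n = 5 := by omega
  refine Rank.boundBy_half (k := 4) hn ?_
  by_contra! hall
  have hle : (fixingSubgroup G F).relIndex (S : Subgroup G) ≤ 4 := by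
    have hker : (image hS).ker = (fixingSubgroup G F).subgroupOf (S : Subgroup G) := by
      ext x
      rw [MonoidHom.mem_ker, image_eq_one_iff, Subgroup.mem_subgroupOf]
    rw [Subgroup.relIndex, ← hker, Subgroup.index_ker]
    refine perm_elementary_le ((Nat.card_coe_set_eq F).trans hF) _ ?_
    rintro _ ⟨x, rfl⟩
    rw [← map_mul, hall x, map_one]
  have h32 : 32 ≤ 4 * 4 := by
    calc 32 = _ := by norm_num
      _ = _ := hmul.symm
      _ ≤ 4 * 4 := Nat.mul_le_mul hle hW
  omega

/-- A 2-subgroup fixing one of at most four points preserved by it has image of order at most two. -/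
theorem relIndex_le_two {F : Set Ω} (hF : F.ncard ≤ 4) {R : Subgroup G} (hR : R ≤ stabilizer G F)
    (h2 : IsPGroup 2 R) {a : Ω} (haF : a ∈ F) (ha : R ≤ stabilizer G a) :
    (fixingSubgroup G F).relIndex R ≤ 2 := by
  haveI : Fact (Nat.Prime 2) := ⟨Nat.prime_two⟩
  have hR' : R ≤ stabilizer G (F \ {a}) := fun r hr => by
    rw [mem_stabilizer_iff, Set.smul_set_sdiff, mem_stabilizer_iff.mp (hR hr), Set.smul_set_singleton,
      mem_stabilizer_iff.mp (ha hr)]
  have he : (fixingSubgroup G (F \ {a})).subgroupOf R = (fixingSubgroup G F).subgroupOf R := by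
    ext x
    rw [Subgroup.mem_subgroupOf, Subgroup.mem_subgroupOf, mem_kernel_iff, mem_kernel_iff]
    refine ⟨fun hx y hy => ?_, fun hx y hy => hx y hy.1⟩
    by_cases hya : y = a
    · rw [hya]; exact mem_stabilizer_iff.mp (ha x.2)
    · exact hx y ⟨hy, hya⟩
  have hd : (fixingSubgroup G F).relIndex R ∣ 6 := by
    have h1 := relIndex_kernel_dvd hR'
    rw [Subgroup.relIndex, he] at h1
    refine h1.trans ?_
    have h3 : (F \ {a}).ncard ≤ 3 := by
      rw [Set.ncard_sdiff_singleton_of_mem haF]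
      omega
    exact Nat.factorial_dvd_factorial h3
  obtain ⟨n, hn⟩ := h2.index ((fixingSubgroup G F).subgroupOf R)
  rw [Subgroup.relIndex] at hd ⊢
  rw [hn] at hd ⊢
  have : n ≤ 1 := by
    by_contra hlt
    have h4 : 4 ∣ 6 := dvd_trans (Nat.pow_dvd_pow 2 (show 2 ≤ n by omega)) hd
    norm_num at h4
  exact (Nat.pow_le_pow_right (by norm_num) this).trans_eq (pow_one 2)

/-- Either the sectional rank is at most four, or involutions in a 2-subgroup fixing a point have
the same fixed points. -/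
theorem prop_u (h : Four G Ω) : Done G ∨ Uniq G Ω := by
  haveI : Fact (Nat.Prime 2) := ⟨Nat.prime_two⟩
  by_cases hU : Uniq G Ω
  · exact Or.inr hU
  left; right
  simp only [Uniq, not_forall] at hU
  obtain ⟨T₀, hT₀, a, hTa, u, hu, v, hv, hu2, hv2, hne⟩ := hU
  obtain ⟨T, hT⟩ := (hT₀.comap_of_injective (stabilizer G a).subtype
    (stabilizer G a).subtype_injective).exists_le_sylow
  set T' := (T : Subgroup (stabilizer G a)).map (stabilizer G a).subtype with hT'
  have hT'2 : IsPGroup 2 T' := T.isPGroup'.map _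
  have hT'a : T' ≤ stabilizer G a := map_subtype_le _
  have hmemT : ∀ x ∈ T₀, x ∈ T' := fun x hx => ⟨⟨x, hTa hx⟩, hT hx, rfl⟩
  obtain ⟨c, -, hc2, hcc⟩ := CfsgLib.TwoGroups.Classify.exists_central_involution hT'2 ⊤ (by
    intro e
    have hm : (⟨u, hmemT u hu⟩ : T') ∈ (⊥ : Subgroup T') := e ▸ mem_top _
    exact ne_one_of_order_two hu2 (congrArg Subtype.val (Subgroup.mem_bot.mp hm)))
  have hc2' : orderOf (c : G) = 2 := (orderOf_injective T'.subtype Subtype.val_injective c).trans hc2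
  set F := fixedBy Ω (c : G) with hFdef
  have haF : a ∈ F := mem_stabilizer_iff.mp (hT'a c.2)
  have hF4 : F.ncard = 4 := h.inv _ hc2' a haF
  have hTF : T' ≤ stabilizer G F := fun t ht =>
    mem_stab_of_comm (congrArg Subtype.val (mem_center_iff.mp hcc ⟨t, ht⟩))
  obtain ⟨y, hy, hy2, hyF⟩ : ∃ y ∈ T', orderOf y = 2 ∧ fixedBy Ω y ≠ F := by
    by_cases e : fixedBy Ω u = F
    · exact ⟨v, hmemT v hv, hv2, fun e' => hne (e.trans e'.symm)⟩
    · exact ⟨u, hmemT u hu, hu2, e⟩
  have hay : a ∈ fixedBy Ω y := mem_stabilizer_iff.mp (hT'a hy)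
  have hFy : (fixedBy Ω y).ncard = 4 := h.inv _ hy2 a hay
  obtain ⟨S, hS⟩ := hT'2.exists_le_sylow
  refine ⟨S, sectional_of_small_kernel S (hS hy) hy2 hFy fun g hg hgy hgK => ?_⟩
  have hga : g ∈ stabilizer G a := mem_stabilizer_iff.mpr (mem_kernel_iff.mp hgK a hay)
  have hgT : g ∈ T' := by
    refine ⟨⟨g, hga⟩, ?_, rfl⟩
    have h1 : IsPGroup 2 ((S : Subgroup G).comap (stabilizer G a).subtype) :=
      S.isPGroup'.comap_of_injective _ (stabilizer G a).subtype_injective
    exact (T.is_maximal' h1 fun x hx => hS ⟨x, hx, rfl⟩).le hg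
  have hindep : ∀ x, x ∈ fixingSubgroup G (fixedBy Ω y) → x ∈ fixingSubgroup G F → x = 1 := by
    intro x hx1 hx2
    by_contra hne1
    exact hyF ((h.card_of_mem_kernel hFy hx1 hne1).symm.trans (h.card_of_mem_kernel hF4 hx2 hne1))
  have hyK : y ∉ fixingSubgroup G F := fun hyK => ne_one_of_order_two hy2
    (hindep y (mem_kernel_iff.mpr fun x hx => hx) hyK)
  by_cases hgF : g ∈ fixingSubgroup G F
  · exact Or.inl (hindep g hgK hgF)
  refine Or.inr ?_
  -- both `g` and `y` move exactly two of the four points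
  have hidx : ((fixingSubgroup G F).subgroupOf T').index ≤ 2 :=
    relIndex_le_two hF4.le hTF hT'2 haF hT'a
  have h2 : ((fixingSubgroup G F).subgroupOf T').index = 2 := by
    have h1 : ((fixingSubgroup G F).subgroupOf T').index ≠ 1 := fun e => hyK
      (mem_subgroupOf.mp ((Subgroup.index_eq_one.mp e).symm ▸ mem_top (⟨y, hy⟩ : T')))
    have h0 : ((fixingSubgroup G F).subgroupOf T').index ≠ 0 := index_ne_zero_of_finite
    omega
  have hgy' : g * y ∈ fixingSubgroup G F := mem_subgroupOf.mp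
    ((Subgroup.mul_mem_iff_of_index_two h2 (a := ⟨g, hgT⟩) (b := ⟨y, hy⟩)).mpr
      (iff_of_false hgF hyK))
  have := hindep _ (mul_mem hgK (mem_kernel_iff.mpr fun x hx => hx)) hgy'
  rw [mul_eq_one_iff_eq_inv.mp this]
  exact inv_eq_of_mul_eq_one_right (pow_two_eq_one hy2)

end CfsgLib.Perm.FixityFour
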