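import Cfsg.Agent.Lib.Perm.FixityFour.Basic
import Mathlib

/-!
Transfer lemmas for a non-abelian simple group: an element of least order outside a subgroup of
index two of a Sylow 2-subgroup fuses into it, and a homomorphism of a subgroup meeting few
conjugates of an element kills that element.
-/

set_option autoImplicit false
set_option linter.style.haveILetI false

namespace CfsgLib.Perm.FixityFour

open Subgroup

variable {G : Type*} [Group G] [Finite G] [IsSimpleGroup G]

/-- Thompson transfer for an element of least order outside a maximal subgroup. -/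
theorem exists_conj_mem (hna : ¬ IsMulCommutative G) (S : Sylow 2 G) (U : Subgroup G)
    (hUi : U.relIndex (S : Subgroup G) = 2) {x : G} (hxS : x ∈ (S : Subgroup G)) (hxU : x ∉ U)
    (hmin : ∀ y ∈ (S : Subgroup G), y ∉ U → orderOf x ≤ orderOf y) :
    ∃ g : G, g * x * g⁻¹ ∈ (S : Subgroup G) ∧ g * x * g⁻¹ ∈ U := by
  classical
  haveI : Fact (Nat.Prime 2) := ⟨Nat.prime_two⟩
  by_contra hcon
  push Not at hcon
  have hmul : ∀ a b : (S : Subgroup G), (a * b ∈ U.subgroupOf (S : Subgroup G)) ↔
      (a ∈ U.subgroupOf (S : Subgroup G) ↔ b ∈ U.subgroupOf (S : Subgroup G)) :=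
    fun a b => Subgroup.mul_mem_iff_of_index_two hUi
  let χ : (S : Subgroup G) →* ℤˣ :=
    { toFun := fun s => if s ∈ U.subgroupOf (S : Subgroup G) then 1 else -1
      map_one' := if_pos (one_mem _)
      map_mul' := fun a b => by
        by_cases ha : a ∈ U.subgroupOf (S : Subgroup G) <;>
          by_cases hb : b ∈ U.subgroupOf (S : Subgroup G) <;> simp [hmul, ha, hb] }
  have hχ : ∀ (s : G) (hs : s ∈ (S : Subgroup G)), χ ⟨s, hs⟩ = if s ∈ U then 1 else -1 := fun s hs => rfl
  haveI : Fintype (Quotient (MulAction.orbitRel (zpowers x) (G ⧸ (S : Subgroup G)))) := Fintype.ofFinite _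
  have hone := hom_eq_one hna (MonoidHom.transfer χ) x
  rw [MonoidHom.transfer_eq_prod_quotient_orbitRel_zpowers_quot,
    Finset.prod_congr rfl (g := fun q => (-1 : ℤˣ) ^ Function.minimalPeriod (x • ·) q.out)] at hone
  · rw [Finset.prod_pow_eq_pow_sum, ← index_eq_sum_minimalPeriod (S : Subgroup G) x] at hone
    have hodd : Odd (S : Subgroup G).index :=
      Nat.not_even_iff_odd.1 fun h => S.not_dvd_index (even_iff_two_dvd.1 h)
    rw [hodd.neg_one_pow] at hone
    exact absurd hone (by decide)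
  intro q _
  have hmem := QuotientGroup.out_conj_pow_minimalPeriod_mem (S : Subgroup G) x q.out
  have hdvd : Function.minimalPeriod (x • ·) q.out ∣ orderOf x := by
    refine Function.IsPeriodicPt.minimalPeriod_dvd ?_
    show (x • ·)^[orderOf x] q.out = q.out
    rw [smul_iterate]
    simp [pow_orderOf_eq_one]
  show χ ⟨_, hmem⟩ = _
  revert hmem
  generalize Function.minimalPeriod (x • ·) q.out = r at hdvd ⊢
  intro hmem
  rw [hχ]
  obtain ⟨e, he⟩ := IsPGroup.iff_orderOf.mp S.isPGroup' ⟨x, hxS⟩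
  rw [Subgroup.orderOf_mk] at he
  rw [he] at hdvd
  obtain ⟨j, hje, rfl⟩ := (Nat.dvd_prime_pow Nat.prime_two).mp hdvd
  rcases j with _ | j
  · simp only [pow_zero, pow_one] at hmem ⊢
    rw [if_neg]
    intro hU
    exact hcon q.out.out⁻¹ (by rwa [inv_inv]) (by rwa [inv_inv])
  · rw [if_pos, Even.neg_one_pow (Nat.even_pow.mpr ⟨even_two, by omega⟩)]
    by_contra hU
    have h1 := hmin _ hmem hU
    rw [show (q.out.out : G)⁻¹ * x ^ 2 ^ (j + 1) * q.out.out =
      q.out.out⁻¹ * x ^ 2 ^ (j + 1) * (q.out.out⁻¹)⁻¹ by rw [inv_inv], ← MulAut.conj_apply,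
      MulEquiv.orderOf_eq,
      orderOf_pow, he, Nat.gcd_eq_right (Nat.pow_dvd_pow 2 hje)] at h1
    have h2 : 2 ^ e / 2 ^ (j + 1) < 2 ^ e :=
      Nat.div_lt_self (Nat.two_pow_pos e) (Nat.one_lt_two_pow (by omega))
    omega

/-- A homomorphism of `M` kills `y` if no nontrivial power of `y` lies in another conjugate of `M`. -/
theorem hom_apply_eq_one (hna : ¬ IsMulCommutative G) (M : Subgroup G) {A : Type*} [CommGroup A]
    (ψ : M →* A) (y : M)
    (htriv : ∀ g : G, g ∉ M → ∀ r : ℕ, ∀ h : g⁻¹ * (y : G) ^ r * g ∈ M, ψ ⟨_, h⟩ = 1) :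
    ψ y = 1 := by
  classical
  haveI : Fintype (Quotient (MulAction.orbitRel (zpowers (y : G)) (G ⧸ M))) := Fintype.ofFinite _
  have hone := hom_eq_one hna (MonoidHom.transfer ψ) (y : G)
  rw [MonoidHom.transfer_eq_prod_quotient_orbitRel_zpowers_quot] at hone
  set q₀ : Quotient (MulAction.orbitRel (zpowers (y : G)) (G ⧸ M)) := Quotient.mk'' ((1 : G) : G ⧸ M)
  rw [Finset.prod_eq_single q₀] at hone
  · have hfix : (y : G) • ((1 : G) : G ⧸ M) = ((1 : G) : G ⧸ M) := by
      rw [MulAction.Quotient.smul_mk, smul_eq_mul, mul_one, QuotientGroup.eq]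
      simp
    have hout : q₀.out = ((1 : G) : G ⧸ M) := by
      have hrel : (MulAction.orbitRel (zpowers (y : G)) (G ⧸ M)).r q₀.out ((1 : G) : G ⧸ M) :=
        Quotient.exact (Quotient.out_eq q₀)
      obtain ⟨⟨w, hw⟩, hwe⟩ := hrel
      rw [← hwe]
      obtain ⟨i, rfl⟩ := mem_zpowers_iff.mp hw
      exact MulAction.mem_stabilizer_iff.mp (zpow_mem (MulAction.mem_stabilizer_iff.mpr hfix) i)
    have hper : Function.minimalPeriod ((y : G) • ·) q₀.out = 1 := by
      rw [hout]
      exact Function.minimalPeriod_eq_one_iff_isFixedPt.mpr hfix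
    have hoM : q₀.out.out ∈ M := by
      have h1 : ((q₀.out.out : G) : G ⧸ M) = ((1 : G) : G ⧸ M) := by rw [QuotientGroup.out_eq', hout]
      rw [QuotientGroup.eq, mul_one] at h1
      simpa using inv_mem h1
    revert hone
    generalize hmem : QuotientGroup.out_conj_pow_minimalPeriod_mem M (y : G) q₀.out = hm
    intro hone
    clear hmem
    revert hm
    rw [hper]
    intro hm hone
    have he : (⟨_, hm⟩ : M) = (⟨_, hoM⟩ : M)⁻¹ * y * ⟨_, hoM⟩ := Subtype.ext (by simp)
    rw [he, map_mul, map_mul, map_inv, inv_mul_cancel_comm] at hone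
    exact hone
  · intro q _ hq
    apply htriv
    intro hg
    apply hq
    have h1 : q.out = ((1 : G) : G ⧸ M) := by
      rw [← QuotientGroup.out_eq' q.out, QuotientGroup.eq, mul_one]
      exact inv_mem hg
    rw [← Quotient.out_eq q, h1]
  · exact fun h => absurd (Finset.mem_univ _) h

end CfsgLib.Perm.FixityFour
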