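import Cfsg.Agent.Lib.Perm.FixityFour.EightCtx
import Cfsg.Agent.Lib.Perm.FixityFour.Transfer

/-!
Fixity four, degree four modulo eight: a Sylow 2-subgroup whose orbit of length four is fixed
pointwise by a normal subgroup of index four.
-/

set_option autoImplicit false
set_option linter.style.haveILetI false

namespace CfsgLib.Perm.FixityFour

open MulAction Subgroup
open scoped Pointwise

variable {G Ω : Type*} [Group G] [MulAction G Ω]

/-- The data: `W = kerPart S F` has index four in `S`, is a Sylow subgroup of the stabiliser of a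
point, and `S` acts regularly on the four points of `F` modulo `W`. -/
structure ModCtx (S : Sylow 2 G) (F : Set Ω) : Prop where
  four : Four G Ω
  uniq : Uniq G Ω
  trans : IsPretransitive G Ω
  deg : Nat.card Ω % 8 = 4
  card : F.ncard = 4
  le : (S : Subgroup G) ≤ stabilizer G F
  orbit : ∀ x ∈ F, ∀ y ∈ F, ∃ s ∈ (S : Subgroup G), s • x = y
  index : (kerPart S F).relIndex (S : Subgroup G) = 4
  eight : 8 ≤ Nat.card (kerPart S F)
  point : ∀ x ∈ F, ∀ s ∈ (S : Subgroup G), s • x = x → s ∈ fixingSubgroup G F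
  fuse : ∀ T : Subgroup G, IsPGroup 2 T → ∀ a : Ω, T ≤ stabilizer G a →
    ∃ g : G, ∀ t ∈ T, g * t * g⁻¹ ∈ kerPart S F

namespace ModCtx

variable {S : Sylow 2 G} {F : Set Ω}

theorem conj_mem (D : ModCtx S F) {s w : G} (hs : s ∈ (S : Subgroup G)) (hw : w ∈ kerPart S F) :
    s * w * s⁻¹ ∈ kerPart S F :=
  ⟨(S : Subgroup G).mul_mem ((S : Subgroup G).mul_mem hs hw.1) ((S : Subgroup G).inv_mem hs),
    conj_mem_kernel (D.le hs) hw.2⟩

variable [Finite G] [Finite Ω]

theorem fixedBy_eq (D : ModCtx S F) {w : G} (hw : w ∈ fixingSubgroup G F) (hw1 : w ≠ 1) :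
    fixedBy Ω w = F := D.four.card_of_mem_kernel D.card hw hw1

/-- A nontrivial 2-element with a fixed point has exactly four fixed points, a translate of `F`. -/
theorem exists_translate (D : ModCtx S F) {x : G} {e : ℕ} (hx : x ^ 2 ^ e = 1) (hx1 : x ≠ 1) {a : Ω}
    (ha : x • a = a) : ∃ g : G, fixedBy Ω x = g • F := by
  haveI : Fact (Nat.Prime 2) := ⟨Nat.prime_two⟩
  have h2 : IsPGroup 2 (zpowers x) :=
    IsPGroup.of_card_dvd_pow (n := e) ((Nat.card_zpowers x).symm ▸ orderOf_dvd_of_pow_eq_one hx)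
  obtain ⟨g, hg⟩ := D.fuse _ h2 a (zpowers_le.mpr (mem_stabilizer_iff.mpr ha))
  refine ⟨g⁻¹, ?_⟩
  have h := D.fixedBy_eq (hg x (mem_zpowers x)).2 fun e => hx1 (conj_eq_one_iff.mp e)
  rw [fixedBy_conj] at h
  rw [← h, inv_smul_smul]

end ModCtx

end CfsgLib.Perm.FixityFour
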