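import Cfsg.Agent.Lib.Perm.FixityFour.OddPart.Cases

/-!
# Fixity four with point stabilisers of odd order divisible by three

Such a simple group has a strongly 3-embedded subgroup or elementary abelian Sylow 3-subgroups of
order nine.
-/

set_option autoImplicit false
set_option linter.style.haveILetI false

namespace CfsgLib.Perm.FixityFour

open MulAction Subgroup OddPart
open scoped Pointwise

/-- A nonabelian simple group moves at least five points. -/
theorem OddPart.four_lt_card {G Ω : Type*} [Group G] [IsSimpleGroup G] (hna : ¬ IsMulCommutative G)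
    [MulAction G Ω] [FaithfulSMul G Ω] [Finite Ω] (hperf : commutator G = ⊤) : 4 < Nat.card Ω := by
  classical
  by_contra h
  push Not at h
  haveI := Fintype.ofFinite Ω
  obtain ⟨ι⟩ : Nonempty (Ω ↪ Fin 4) := Function.Embedding.nonempty_of_card_le
    (by rw [Fintype.card_fin, ← Nat.card_eq_fintype_card]; exact h)
  let φ : G →* Equiv.Perm (Fin 4) :=
    (Equiv.Perm.viaEmbeddingHom ι).comp (MulAction.toPermHom G Ω)
  have hinj : Function.Injective φ :=
    (Equiv.Perm.viaEmbeddingHom_injective ι).comp MulAction.toPerm_injective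
  have hs : ∀ g, Equiv.Perm.sign (φ g) = 1 := hom_eq_one hperf (Equiv.Perm.sign.comp φ)
  let χ : G →* Multiplicative (ZMod 3) := MonoidHom.mk'
    (fun g => Multiplicative.ofAdd (chi (φ g))) fun g g' => by
      rw [← ofAdd_add, map_mul]
      exact congrArg _ (chi_mul_four _ _ (hs g) (hs g'))
  have hχ : ∀ g, chi (φ g) = 0 := fun g => Multiplicative.ofAdd.injective (hom_eq_one hperf χ g)
  refine hna ⟨⟨fun g g' => hinj ?_⟩⟩
  rw [map_mul, map_mul]
  exact commute_of_chi _ _ ⟨hs g, hs g', hχ g, hχ g'⟩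

/-- The odd part of the fixity four theorem. -/
theorem odd_part {G Ω : Type*} [Group G] [Finite G] [IsSimpleGroup G] (hna : ¬ IsMulCommutative G)
    [MulAction G Ω] [FaithfulSMul G Ω] [Finite Ω] (htrans : MulAction.IsPretransitive G Ω)
    (hfix : ∀ g : G, g ≠ 1 → Nat.card (MulAction.fixedBy Ω g) ≤ 4)
    (hodd : ∀ b : Ω, Odd (Nat.card (MulAction.stabilizer G b))) (a : Ω)
    (h3 : 3 ∣ Nat.card (MulAction.stabilizer G a)) (P : Sylow 3 G) :
    (∃ H : Subgroup G, H ≠ ⊤ ∧ 3 ∣ Nat.card H ∧ ∀ g : G, g ∉ H →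
      ¬ 3 ∣ Nat.card ↥(H ⊓ H.map (MulAut.conj g).toMonoidHom)) ∨
    (Nat.card P = 9 ∧ ∀ x ∈ (P : Subgroup G), x ^ 3 = 1) := by
  haveI : Fact (Nat.Prime 3) := ⟨Nat.prime_three⟩
  haveI := htrans
  have hperf : commutator G = ⊤ :=
    (Subgroup.Normal.eq_bot_or_eq_top (H := commutator G) inferInstance).resolve_left fun hb =>
      hna ⟨⟨fun x y => commutatorElement_eq_one_iff_mul_comm.1
        (Subgroup.mem_bot.1 (hb ▸ commutator_mem_commutator (mem_top x) (mem_top y)))⟩⟩
  have hbig : 4 < Nat.card Ω := OddPart.four_lt_card (G := G) hna hperf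
  have hG3 : 3 ∣ Nat.card G := h3.trans (Subgroup.card_subgroup_dvd_card _)
  have hfull4 : ∀ F : Set Ω, Nat.card F = 4 → Full G F := fun F hF x hx hsub =>
    (Set.eq_of_subset_of_ncard_le hsub (by
      rw [← Nat.card_coe_set_eq, ← Nat.card_coe_set_eq, hF]
      exact hfix x (ne_one_of_orderOf_three hx)) (Set.toFinite _)).symm
  have huniv : ∀ x : G, x ≠ 1 → fixedBy Ω x ≠ Set.univ := fun x hx e => by
    have h1 := hfix x hx
    rw [e, Nat.card_coe_set_eq, Set.ncard_univ] at h1
    omega
  have hPcard : Nontrivial (P : Subgroup G) := by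
    refine Finite.one_lt_card_iff_nontrivial.1 ?_
    have h1 := Nat.le_of_dvd Nat.card_pos (P.pow_dvd_card_of_pow_dvd_card (n := 1) (by simpa using hG3))
    rw [pow_one] at h1
    exact lt_of_lt_of_le (by norm_num) h1
  obtain ⟨z₀, hz₀⟩ : ∃ z : G, z ∈ (P : Subgroup G) ∧ orderOf z = 3 ∧
      ∀ x ∈ (P : Subgroup G), Commute x z := by
    obtain ⟨c, hc, hco, hcc⟩ := exists_central (P.isPGroup') (W := (P : Subgroup G)) le_rfl
      (fun e => by rw [e] at hPcard; exact (not_nontrivial_iff_subsingleton.2 inferInstance) hPcard)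
      fun r hr x hx => mul_mem (mul_mem hr hx) (inv_mem hr)
    exact ⟨c, hc, hco, hcc⟩
  -- the central element of largest fixed point set
  obtain ⟨z, ⟨hzP, hz, hzc⟩, hmax⟩ := Set.exists_max_image
    {z : G | z ∈ (P : Subgroup G) ∧ orderOf z = 3 ∧ ∀ x ∈ (P : Subgroup G), Commute x z}
    (fun z => Nat.card (fixedBy Ω z)) (Set.toFinite _) ⟨z₀, hz₀⟩
  have hzle := hfix z (ne_one_of_orderOf_three hz)
  -- fixed points of an element of order three, modulo three
  have hmod : ∀ x : G, orderOf x = 3 → Nat.card Ω ≡ Nat.card (fixedBy Ω x) [MOD 3] := by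
    intro x hx
    have h1 := (IsPGroup.of_card (n := 1) (by rw [Nat.card_zpowers, hx, pow_one]) :
      IsPGroup 3 (zpowers x)).card_modEq_card_fixedPoints Ω
    rwa [show fixedPoints (zpowers x) Ω = fixedBy Ω x from ?_] at h1
    ext c
    refine ⟨fun h => h ⟨x, mem_zpowers x⟩, fun h g => ?_⟩
    exact mem_stabilizer_iff.1 (zpowers_le.2 (mem_stabilizer_iff.2 h) g.2)
  by_cases hΩ : 3 ∣ Nat.card Ω
  · -- every element of order three fixes none or three points
    have h03 : ∀ x : G, orderOf x = 3 → Nat.card (fixedBy Ω x) = 0 ∨ Nat.card (fixedBy Ω x) = 3 := by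
      intro x hx
      have h1 := hfix x (ne_one_of_orderOf_three hx)
      have h2 := (hmod x hx).symm.trans (Nat.modEq_zero_iff_dvd.2 hΩ)
      unfold Nat.ModEq at h2
      omega
    have hfull3 : ∀ F : Set Ω, Nat.card F = 3 → Full G F := fun F hF x hx hsub =>
      (Set.eq_of_subset_of_ncard_le hsub (by
        rw [← Nat.card_coe_set_eq, ← Nat.card_coe_set_eq, hF]
        rcases h03 x hx with e | e <;> omega) (Set.toFinite _)).symm
    rcases h03 z hz with h0 | h0
    · obtain ⟨x, hx⟩ := exists_prime_orderOf_dvd_card' (G := stabilizer G a) 3 h3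
      have hxo : orderOf (x : G) = 3 := by rw [Subgroup.orderOf_coe, hx]
      obtain ⟨R, hR⟩ :=
        (IsPGroup.of_card (n := 1) (by rw [Nat.card_zpowers, hxo, pow_one]) :
          IsPGroup 3 (zpowers (x : G))).exists_le_sylow
      obtain ⟨g, hg⟩ := MulAction.exists_smul_eq G R P
      have hwP : g * x * g⁻¹ ∈ (P : Subgroup G) := by
        have h1 : g * x * g⁻¹ ∈ ((g • R : Sylow 3 G) : Subgroup G) :=
          Subgroup.smul_mem_pointwise_smul (x : G) (MulAut.conj g) _ (hR (mem_zpowers _))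
        rwa [hg] at h1
      have hw : orderOf (g * x * g⁻¹) = 3 :=
        (orderOf_injective (MulAut.conj g).toMonoidHom (MulAut.conj g).injective (x : G)).trans hxo
      have hF : Nat.card (fixedBy Ω (g * x * g⁻¹)) = 3 := by
        refine (h03 _ hw).resolve_left fun e => ?_
        rw [fixedBy_conj, Nat.card_coe_set_eq, Set.ncard_smul_set,
          Set.ncard_eq_zero (Set.toFinite _)] at e
        exact Set.eq_empty_iff_forall_notMem.1 e a (mem_stabilizer_iff.1 x.2)
      exact noncentral_case hodd hperf P hwP hw hzP hz hzc rfl (hfull3 _ hF) (Or.inl hF)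
        fun c hc hco hcc => lt_of_le_of_lt (hmax c ⟨hc, hco, hcc⟩) (by rw [h0, hF]; norm_num)
    · refine central_case hodd hperf P hG3 hzP hz hzc rfl (hfull3 _ h0) ?_
        (huniv z (ne_one_of_orderOf_three hz)) (Or.inl h0)
      exact Set.nonempty_of_ncard_ne_zero (by rw [← Nat.card_coe_set_eq, h0]; norm_num)
  -- the Sylow subgroup fixes a point
  obtain ⟨b, hb⟩ := P.isPGroup'.nonempty_fixed_point_of_prime_not_dvd_card Ω hΩ
  have hPb : ∀ x ∈ (P : Subgroup G), x • b = b := fun x hx => hb ⟨x, hx⟩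
  set F := fixedBy Ω z with hF
  have hbF : b ∈ F := hPb z hzP
  have hPF : (P : Subgroup G) ≤ stabilizer G F := fun x hx => mem_stabilizer_iff.2
    (smul_fixedBy_of_commute (hzc x hx))
  by_cases htriv : ∀ x ∈ (P : Subgroup G), ∀ c ∈ F, x • c = c
  · by_cases hall : ∀ x ∈ (P : Subgroup G), orderOf x = 3 → fixedBy Ω x = F
    · exact strongly_embedded P ⟨b, hbF⟩ (huniv z (ne_one_of_orderOf_three hz)) hPF hall hG3
    push Not at hall
    obtain ⟨w, hwP, hw, hwF⟩ := hall
    have hwle := hfix w (ne_one_of_orderOf_three hw)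
    have hsub : F ⊂ fixedBy Ω w := lt_of_le_of_ne (fun c hc => htriv w hwP c hc) (Ne.symm hwF)
    have hlt := Set.ncard_lt_ncard hsub (Set.toFinite _)
    rw [← Nat.card_coe_set_eq, ← Nat.card_coe_set_eq] at hlt
    have hpos : 0 < Nat.card F := by
      haveI : Nonempty F := ⟨⟨b, hbF⟩⟩
      exact Nat.card_pos
    have h1 := (hmod w hw).symm.trans (hmod z hz)
    rw [← hF] at h1
    unfold Nat.ModEq at h1
    have hw4 : Nat.card (fixedBy Ω w) = 4 := by omega
    exact noncentral_case hodd hperf P hwP hw hzP hz hzc rfl (hfull4 _ hw4) (Or.inr hw4)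
      fun c hc hco hcc => lt_of_le_of_lt (hmax c ⟨hc, hco, hcc⟩) hlt
  · push Not at htriv
    obtain ⟨x, hxP, c, hc, hxc⟩ := htriv
    have hF4 : Nat.card F = 4 := by
      refine le_antisymm hzle ?_
      let O : SubMulAction (P : Subgroup G) Ω :=
        { carrier := F \ {b}
          smul_mem' := fun g d hd => by
            refine ⟨?_, fun e => hd.2 ?_⟩
            · have := Set.smul_mem_smul_set (a := (g : G)) hd.1
              rwa [mem_stabilizer_iff.1 (hPF g.2)] at this
            · exact smul_left_cancel (g : G) ((Set.mem_singleton_iff.1 e).trans (hPb g g.2).symm) }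
      have hcO : c ∈ O := ⟨hc, fun e => hxc (by rw [Set.mem_singleton_iff.1 e]; exact hPb x hxP)⟩
      obtain ⟨i, hi⟩ := P.isPGroup'.card_orbit (⟨c, hcO⟩ : O)
      have h1 : Nat.card (orbit (P : Subgroup G) (⟨c, hcO⟩ : O)) ≠ 1 := fun e => by
        rw [Nat.card_eq_one_iff_unique] at e
        have h2 := @Subsingleton.elim _ e.1
          (⟨_, ⟨x, hxP⟩, rfl⟩ : orbit (P : Subgroup G) (⟨c, hcO⟩ : O)) ⟨_, mem_orbit_self _⟩
        exact hxc (congrArg (fun t => ((t : O) : Ω)) (congrArg Subtype.val h2))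
      have h3le : 3 ≤ Nat.card (orbit (P : Subgroup G) (⟨c, hcO⟩ : O)) := by
        rw [hi] at h1 ⊢
        rcases i with _ | i
        · exact absurd (pow_zero 3) h1
        · exact Nat.le_self_pow i.succ_ne_zero 3
      have h2 : Nat.card (orbit (P : Subgroup G) (⟨c, hcO⟩ : O)) ≤ Nat.card O :=
        Nat.card_le_card_of_injective _ Subtype.val_injective
      have hO : Nat.card O + 1 = Nat.card F := by
        show Nat.card ↑(F \ {b}) + 1 = _
        rw [Nat.card_coe_set_eq, Nat.card_coe_set_eq,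
          Set.ncard_sdiff_singleton_add_one hbF (Set.toFinite _)]
      omega
    exact central_case hodd hperf P hG3 hzP hz hzc rfl (hfull4 _ hF4) ⟨b, hbF⟩
      (huniv z (ne_one_of_orderOf_three hz)) (Or.inr hF4)

end CfsgLib.Perm.FixityFour
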