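import Cfsg.Agent.Lib.Perm.FixityFour.FourSetup

/-!
Tools for fixity four: free actions, normalisers in 2-groups, class sizes in elementary sections.
-/

set_option autoImplicit false
set_option linter.style.haveILetI false

namespace CfsgLib.Perm.FixityFour

open MulAction Subgroup
open scoped Pointwise
open LocalEvenB.SelfCentralEight.Sections (Sec BoundBy)

variable {G Ω : Type*} [Group G] [MulAction G Ω] [Finite G] [Finite Ω]

omit [Finite G] [Finite Ω] in
/-- The order of a subgroup acting freely on an invariant set divides the size of the set. -/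
theorem card_dvd_of_free (W : Subgroup G) (X : Set Ω) (hX : ∀ w ∈ W, ∀ x ∈ X, w • x ∈ X)
    (hfree : ∀ w ∈ W, ∀ x ∈ X, w • x = x → w = 1) : Nat.card W ∣ X.ncard := by
  let Y : SubMulAction W Ω := { carrier := X, smul_mem' := fun w x hx => hX w w.2 x hx }
  have hst : ∀ b : Y, MulAction.stabilizer W b = ⊥ := by
    intro b
    rw [eq_bot_iff]
    intro w hw
    exact Subgroup.mem_bot.mpr (Subtype.ext (hfree w w.2 b b.2 (congrArg Subtype.val hw)))
  have h1 := Nat.card_congr (MulAction.selfEquivOrbitsQuotientProd hst)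
  rw [Nat.card_prod] at h1
  exact ⟨_, by rw [← Nat.card_coe_set_eq, Nat.mul_comm]; exact h1⟩

omit [Finite G] [Finite Ω] in
theorem compl_invariant {F : Set Ω} {g : G} (hg : g ∈ stabilizer G F) {x : Ω} (hx : x ∉ F) : g • x ∉ F :=
  fun h => hx (by
    rw [← mem_stabilizer_iff.mp hg] at h
    exact Set.smul_mem_smul_set_iff.mp h)

/-- The kernel on a four-set acts freely on the other points. -/
theorem Four.card_kernel_dvd (h : Four G Ω) {F : Set Ω} (hF : F.ncard = 4) {W : Subgroup G}
    (hW : W ≤ fixingSubgroup G F) : Nat.card W ∣ Nat.card Ω - 4 := by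
  have h1 : Fᶜ.ncard = Nat.card Ω - 4 := by rw [Set.ncard_compl, hF]
  rw [← h1]
  exact card_dvd_of_free W _ (fun w hw x hx => compl_invariant (kernel_le_setStab F (hW hw)) hx)
    fun w hw x hx hwx => eq_one_of_extra h.fix hF hx hwx (mem_kernel_iff.mp (hW hw))

omit [MulAction G Ω] [Finite Ω] in
/-- Normalisers grow in a 2-group. -/
theorem exists_normalizer_gt (S : Sylow 2 G) {X : Subgroup G} (hX : X ≤ (S : Subgroup G))
    (hne : ¬ (S : Subgroup G) ≤ X) :
    ∃ g ∈ (S : Subgroup G), g ∉ X ∧ ∀ x, (x ∈ X ↔ g * x * g⁻¹ ∈ X) := by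
  haveI := S.isPGroup'.isNilpotent
  obtain ⟨g, hgN, hgX⟩ := SetLike.exists_of_lt (Group.normalizerCondition_of_isNilpotent
    (X.subgroupOf (S : Subgroup G)) (Ne.lt_top fun h => hne (subgroupOf_eq_top.mp h)))
  refine ⟨g, g.2, fun h => hgX (mem_subgroupOf.mpr h), fun x => ⟨fun hx => ?_, fun hx => ?_⟩⟩
  · exact mem_subgroupOf.mp ((mem_normalizer_iff.mp hgN ⟨x, hX hx⟩).mp (mem_subgroupOf.mpr hx))
  · have hxS : x ∈ (S : Subgroup G) := by
      have := mul_mem (mul_mem (inv_mem g.2) (hX hx)) g.2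
      simpa [mul_assoc] using this
    exact mem_subgroupOf.mp ((mem_normalizer_iff.mp hgN ⟨x, hxS⟩).mpr (mem_subgroupOf.mpr hx))

omit [MulAction G Ω] [Finite Ω] in
theorem map_conj_eq {g : G} {X : Subgroup G} (h : ∀ x, (x ∈ X ↔ g * x * g⁻¹ ∈ X)) :
    X.map (MulAut.conj g).toMonoidHom = X := by
  ext y
  constructor
  · rintro ⟨x, hx, rfl⟩
    exact (h x).mp hx
  · intro hy
    refine ⟨g⁻¹ * y * g, ?_, ?_⟩
    · exact (h _).mpr (by simpa [mul_assoc] using hy)
    · show g * (g⁻¹ * y * g) * g⁻¹ = y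
      group

omit [MulAction G Ω] [Finite Ω] in
/-- In an elementary section `K / N` every element of `K` has at most `|N|` conjugates under `K`. -/
theorem class_le {K N : Subgroup G} (h : Sec K N) {u : G} (hu : u ∈ K) :
    (centralizer ({u} : Set G)).relIndex K ≤ Nat.card N := by
  let f : K ⧸ (centralizer ({u} : Set G)).subgroupOf K → N := fun q =>
    ⟨(q.out : G) * u * (q.out : G)⁻¹ * u⁻¹, h.comm_mem q.out.2 hu⟩
  have hf : Function.Injective f := by
    intro a b hab
    have h1 : (a.out : G) * u * (a.out : G)⁻¹ = (b.out : G) * u * (b.out : G)⁻¹ :=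
      mul_right_cancel (congrArg Subtype.val hab)
    rw [← QuotientGroup.out_eq' a, ← QuotientGroup.out_eq' b, QuotientGroup.eq, mem_subgroupOf,
      mem_centralizer_singleton_iff]
    calc (((a.out)⁻¹ * b.out : K) : G) * u
        = (a.out : G)⁻¹ * ((b.out : G) * u * (b.out : G)⁻¹) * b.out := by push_cast; group
      _ = (a.out : G)⁻¹ * ((a.out : G) * u * (a.out : G)⁻¹) * b.out := by rw [h1]
      _ = u * (((a.out)⁻¹ * b.out : K) : G) := by push_cast; group
  exact Nat.card_le_card_of_injective f hf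

omit [MulAction G Ω] [Finite Ω] in
/-- Sections of a subgroup checked inside the group. -/
theorem boundBy_of_inside {S : Subgroup G} {n : ℕ}
    (h : ∀ K N : Subgroup G, K ≤ S → Sec K N → N.relIndex K ≤ n) : BoundBy S n := by
  intro K N hKN
  rw [← relIndex_map_map_of_injective N K S.subtype_injective]
  exact h _ _ (map_subtype_le K) (hKN.map _)

omit [MulAction G Ω] [Finite Ω] in
theorem card_inf_ge {X A B : Subgroup G} (hAB : A ≤ B) (hXB : X ≤ B) :
    Nat.card X * Nat.card A ≤ Nat.card ↥(X ⊓ A) * Nat.card B := by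
  have h1 := LocalEvenB.SelfCentralEight.Sections.relIndex_mul_card (inf_le_left : X ⊓ A ≤ X)
  have h2 := LocalEvenB.SelfCentralEight.Sections.relIndex_mul_card hAB
  rw [inf_relIndex_left] at h1
  have h3 : A.relIndex X ≤ A.relIndex B := relIndex_le_of_le_right hXB index_ne_zero_of_finite
  rw [← h1, ← h2]
  calc A.relIndex X * Nat.card ↥(X ⊓ A) * Nat.card A
      ≤ A.relIndex B * Nat.card ↥(X ⊓ A) * Nat.card A :=
        Nat.mul_le_mul_right _ (Nat.mul_le_mul_right _ h3)
    _ = Nat.card ↥(X ⊓ A) * (A.relIndex B * Nat.card A) := by ring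

omit [MulAction G Ω] [Finite Ω] in
theorem exists_ne_one_of_two_le {X : Subgroup G} (h : 2 ≤ Nat.card X) : ∃ x ∈ X, x ≠ 1 := by
  by_contra! hall
  have : X = ⊥ := eq_bot_iff.mpr fun x hx => Subgroup.mem_bot.mpr (hall x hx)
  rw [this, card_bot] at h
  omega

omit [Finite Ω] [MulAction G Ω] in
/-- A group of four elements with trivial squares. -/
theorem four_elements {W : Subgroup G} (hW : Nat.card W = 4) {p q : G} (hp : p ∈ W) (hq : q ∈ W) (hp1 : p ≠ 1)
    (hq1 : q ≠ 1) (hpq : p ≠ q) (hpp : p * p = 1) {w : G} (hw : w ∈ W) :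
    w = 1 ∨ w = p ∨ w = q ∨ w = p * q := by
  classical
  have h4 : ({1, p, q, p * q} : Set G).ncard = 4 := by
    have e1 : (1 : G) ≠ p * q := fun e => hpq (mul_left_cancel (hpp.trans e))
    have e2 : p ≠ p * q := fun e => hq1 (left_eq_mul.mp e)
    have e3 : q ≠ p * q := fun e => hp1 (right_eq_mul.mp e)
    rw [Set.ncard_insert_of_notMem (by simp [Ne.symm hp1, Ne.symm hq1, e1]) (Set.toFinite _),
      Set.ncard_eq_three.mpr ⟨p, q, p * q, hpq, e2, e3, rfl⟩]
  have hsub : ({1, p, q, p * q} : Set G) ⊆ (W : Set G) := by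
    rintro y (rfl | rfl | rfl | rfl)
    exacts [one_mem W, hp, hq, mul_mem hp hq]
  have := Set.eq_of_subset_of_ncard_le hsub
    (by rw [h4]; exact ((Nat.card_coe_set_eq (W : Set G)).symm.trans hW).le) (Set.toFinite _)
  have hw' : w ∈ ({1, p, q, p * q} : Set G) := this ▸ hw
  simpa using hw'

end CfsgLib.Perm.FixityFour
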